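import Cfsg.Agent.Lib.SuzukiUnique.FromHyp
import Cfsg.Agent.Lib.CIT.TI

/-!
Simple CIT-groups with TI Sylow 2-subgroups of Suzuki type are Suzuki groups.
-/

set_option autoImplicit false
set_option linter.style.haveILetI false

namespace CfsgLib.SuzukiUnique

open Subgroup

universe u

theorem exists_equiv_of_suzType {G : Type u} [Group G] [Finite G] [IsSimpleGroup G] (hG : ∃ a b : G, a * b ≠ b * a)
    (hC : CIT.IsCIT G) (hTI : CIT.IsTI G) (hS : CIT.SuzType G) :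
    ∃ (F : Type) (_ : Field F) (_ : Fintype F) (m : ℕ), 1 ≤ m ∧ Fintype.card F = 2 ^ (2 * m + 1) ∧
      Nat.card G = (2 ^ (2 * m + 1)) ^ 2 * ((2 ^ (2 * m + 1)) ^ 2 + 1) * (2 ^ (2 * m + 1) - 1) ∧
      Nonempty (G ≃* ↥(Cfsg.Lie.Sz F (2 ^ (m + 1)))) := by
  classical
  haveI : Fact (Nat.Prime 2) := ⟨Nat.prime_two⟩
  obtain ⟨n, -, -, -, hP⟩ := hS
  obtain ⟨T⟩ : Nonempty (Sylow 2 G) := inferInstance
  obtain ⟨hH, hA, -⟩ := CIT.ti_hyp hG hC hTI T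
  obtain ⟨-, -, a, ha, b, hb, hne⟩ := hP T
  haveI := Fintype.ofFinite G
  haveI := Fintype.ofFinite (G ⧸ CentTI.Nn T)
  obtain ⟨P, hPH, -, -⟩ := CentTI.exists_datum hH
  have hPT : P.H = (T : Subgroup G) := hPH.trans hA
  let S : SuzukiZT.Hyp G (G ⧸ CentTI.Nn T) :=
    ⟨P, inferInstance, hPT ▸ T.2, a, hPT.symm ▸ ha, b, hPT.symm ▸ hb, hne⟩
  obtain ⟨F, iF, iFt, m, hm, hF, hq, he⟩ := exists_equiv_sz S
  refine ⟨F, iF, iFt, m, hm, hF, ?_, he⟩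
  rw [S.P.card_G]
  show (S.h + 1) * S.h * S.e = _
  rw [S.h_eq_sq, show S.e = S.q - 1 from by have := S.q_eq; omega, ← hq, hF]
  ring

end CfsgLib.SuzukiUnique
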