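import Cfsg.Agent.Lib.SuzukiUnique.Model
import Cfsg.Agent.Lib.Suzuki.Lie
import Mathlib.FieldTheory.Finite.Basic

/-!
Suzuki groups over isomorphic fields are isomorphic.
-/

set_option autoImplicit false
set_option linter.unusedSectionVars false
set_option linter.style.haveILetI false

namespace CfsgLib.SuzukiUnique

open Cfsg

variable {G : Type*} [Group G] {F F' : Type*} [Field F] [Field F'] {φ : F' ≃+* F'}

/-- Transport of coordinates along a field isomorphism. -/
noncomputable def Coord.transport (C : Coord G F' φ) (σ : F ≃+* F') : Coord G F ((σ.trans φ).trans σ.symm) where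
  p X := C.p (σ X.1, σ X.2)
  p_mul X Y := by
    rw [C.p_mul]
    simp [mulP, map_add, map_mul]
  e := C.e.comp (Units.map (σ : F →+* F').toMonoidHom)
  e_conj l X := by
    show C.e _ * C.p _ * (C.e _)⁻¹ = _
    rw [C.e_conj]
    simp [dP, map_mul]
  w := C.w
  w_sq := C.w_sq
  w_e l := C.w_e _
  uniq a l b a' l' b' h := by
    obtain ⟨h1, h2, h3⟩ := C.uniq _ _ _ _ _ _ h
    simp only [Prod.mk.injEq, EmbeddingLike.apply_eq_iff_eq] at h1 h3
    exact ⟨Prod.ext h1.1 h1.2, Units.map_injective (f := (σ : F →+* F').toMonoidHom) σ.injective h2,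
      Prod.ext h3.1 h3.2⟩
  out a l := C.out _ _
  cover g := by
    have hu : ∀ l : F'ˣ, Units.map (σ : F →+* F').toMonoidHom (Units.map (σ.symm : F' →+* F).toMonoidHom l) = l :=
      fun l => Units.ext (by simp)
    rcases C.cover g with ⟨a, l, h⟩ | ⟨a, l, b, h⟩
    · refine Or.inl ⟨(σ.symm a.1, σ.symm a.2), Units.map (σ.symm : F' →+* F).toMonoidHom l, ?_⟩
      simp only [MonoidHom.comp_apply, hu, RingEquiv.apply_symm_apply, Prod.mk.eta]
      exact h
    · refine Or.inr ⟨(σ.symm a.1, σ.symm a.2), Units.map (σ.symm : F' →+* F).toMonoidHom l,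
        (σ.symm b.1, σ.symm b.2), ?_⟩
      simp only [MonoidHom.comp_apply, hu, RingEquiv.apply_symm_apply, Prod.mk.eta]
      exact h

/-- The Suzuki group depends only on the order of the field. -/
theorem nonempty_lie_congr [Fintype F] [Fintype F'] {m : ℕ} (hm : 1 ≤ m) (hF : Fintype.card F = 2 ^ (2 * m + 1))
    (hF' : Fintype.card F' = 2 ^ (2 * m + 1)) :
    Nonempty (↥(Lie.Sz F' (2 ^ (m + 1))) ≃* ↥(Lie.Sz F (2 ^ (m + 1)))) := by
  obtain ⟨e⟩ := nonempty_equiv_sz hF hm
    ((szCoord hF' hm).transport (FiniteField.ringEquivOfCardEq (hF.trans hF'.symm))) (Suzuki.card_Sz hF' hm)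
  exact ⟨((Suzuki.lieEquiv hF' hm).symm.trans e).trans (Suzuki.lieEquiv hF hm)⟩

end CfsgLib.SuzukiUnique
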