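import Cfsg.Agent.Lib.SuzukiUnique.Model
import Cfsg.Agent.Lib.SuzukiTwo.Weight
import Cfsg.Agent.Lib.SuzukiZT.Square
import Cfsg.Agent.Lib.Suzuki.Lie

/-!
Simple Zassenhaus groups with non-abelian kernel of two-power order are Suzuki groups.
-/

set_option autoImplicit false
set_option linter.unusedSectionVars false
set_option linter.style.haveILetI false
set_option maxHeartbeats 1000000

namespace CfsgLib.SuzukiUnique

open MulAction
open CfsgLib.SuzukiTwo (triGroup triU triU_mul triU_inj triU_zero)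

universe u v

section Section

variable {F : Type*} [Field F] [Finite F] [CharP F 2]

/-- Coordinates in which an automorphism of finite order acts by scaling. -/
theorem exists_section (φ : F ≃+* F) {P : Type*} [Group P] (k : MulAut P) (ι : P ≃* triGroup (φ : F →+* F)) {l : F}
    (hl : l ≠ 0) (h₁ : ∀ p x y, ((ι p : triGroup (φ : F →+* F)) : GL (Fin 3) F) = triU (φ : F →+* F) x y →
      ∃ y', ((ι (k p) : triGroup (φ : F →+* F)) : GL (Fin 3) F) = triU (φ : F →+* F) (l * x) y')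
    (h₂ : ∀ p y, ((ι p : triGroup (φ : F →+* F)) : GL (Fin 3) F) = triU (φ : F →+* F) 0 y →
      ((ι (k p) : triGroup (φ : F →+* F)) : GL (Fin 3) F) = triU (φ : F →+* F) 0 (l * φ l * y))
    {e : ℕ} (he : Odd e) (hle : l ^ e = 1) (hke : k ^ e = 1) :
    ∃ c : F × F → P, Function.Bijective c ∧ (∀ X Y, c X * c Y = c (mulP φ X Y)) ∧ ∀ X, k (c X) = c (dP φ l X) := by
  classical
  let mk : F → F → P := fun x y => ι.symm ⟨triU (φ : F →+* F) x y, (x, y), rfl⟩
  have hmk : ∀ x y, ((ι (mk x y) : triGroup (φ : F →+* F)) : GL (Fin 3) F) = triU (φ : F →+* F) x y := fun x y => by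
    simp only [mk, MulEquiv.apply_symm_apply]
  have mk_ext : ∀ p x y, ((ι p : triGroup (φ : F →+* F)) : GL (Fin 3) F) = triU (φ : F →+* F) x y → p = mk x y := fun p x y h =>
    ι.injective (Subtype.ext (h.trans (hmk x y).symm))
  have mk_mul : ∀ x y x' y', mk x y * mk x' y' = mk (x + x') (y + y' + φ x * x') := fun x y x' y' =>
    mk_ext _ _ _ (by rw [map_mul, Subgroup.coe_mul, hmk, hmk]; exact triU_mul (φ : F →+* F) _ _ _ _)
  have mk_inj : ∀ {x y x' y'}, mk x y = mk x' y' → x = x' ∧ y = y' := fun {x y x' y'} h =>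
    triU_inj (φ : F →+* F) ((hmk x y).symm.trans ((congrArg (fun p => ((ι p : triGroup (φ : F →+* F)) : GL (Fin 3) F)) h).trans (hmk x' y')))
  choose lam hlam using fun x => h₁ (mk x 0) x 0 (hmk x 0)
  have hk : ∀ x y, k (mk x y) = mk (l * x) (l * φ l * y + lam x) := by
    intro x y
    have e1 : mk x y = mk x 0 * mk 0 y := by rw [mk_mul, add_zero, zero_add, mul_zero, add_zero]
    rw [e1, map_mul, mk_ext _ _ _ (hlam x), mk_ext _ _ _ (h₂ _ y (hmk 0 y)), mk_mul, add_zero, mul_zero, add_zero,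
      add_comm (lam x)]
  have hlam_add : ∀ x x', lam (x + x') = lam x + lam x' := by
    intro x x'
    have e1 := congrArg k (mk_mul x 0 x' 0)
    rw [map_mul, hk, hk, hk, mk_mul] at e1
    obtain ⟨-, e2⟩ := mk_inj e1
    simp only [add_zero, zero_add, mul_zero, map_mul] at e2
    linear_combination -e2
  let ζ : ℕ → F → F := fun i => i.rec (fun _ => 0) fun _ r x => lam (l⁻¹ * x) + l * φ l * r (l⁻¹ * x)
  have hζ0 : ∀ x, ζ 0 x = 0 := fun x => rfl
  have hζs : ∀ i x, ζ (i + 1) x = lam (l⁻¹ * x) + l * φ l * ζ i (l⁻¹ * x) := fun i x => rfl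
  have hζadd : ∀ i x x', ζ i (x + x') = ζ i x + ζ i x' := by
    intro i
    induction i with
    | zero => intro x x'; rw [hζ0, hζ0, hζ0, add_zero]
    | succ i ih => intro x x'; rw [hζs, hζs, hζs, mul_add, hlam_add, ih]; ring
  have hit : ∀ i x, (k ^ i) (mk x 0) = mk (l ^ i * x) (ζ i (l ^ i * x)) := by
    intro i
    induction i with
    | zero => intro x; rw [pow_zero, pow_zero, one_mul, hζ0]; rfl
    | succ i ih =>
      intro x
      rw [pow_succ', MulAut.mul_apply, ih, hk, hζs]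
      rw [show l⁻¹ * (l ^ (i + 1) * x) = l ^ i * x by rw [pow_succ']; field_simp, pow_succ', mul_assoc,
        add_comm (lam _), mul_assoc l (l ^ i) x]
  have hζe : ∀ x, ζ e x = 0 := fun x => by
    have h := hit e x
    rw [hke, MulAut.one_apply, hle, one_mul] at h
    exact (mk_inj h).2.symm
  let μ : F → F := fun x => ∑ i ∈ Finset.range e, ζ i x
  have hμadd : ∀ x x', μ (x + x') = μ x + μ x' := fun x x' => by
    simp only [μ, hζadd, Finset.sum_add_distrib]
  have hμ : ∀ x, lam x + l * φ l * μ x = μ (l * x) := by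
    intro x
    have h1 : ∑ i ∈ Finset.range e, ζ (i + 1) (l * x) = μ (l * x) := by
      show _ = ∑ i ∈ Finset.range e, ζ i (l * x)
      have a := Finset.sum_range_succ' (fun i => ζ i (l * x)) e
      rw [Finset.sum_range_succ, hζe, hζ0, add_zero, add_zero] at a
      exact a.symm
    rw [← h1, Finset.sum_congr rfl fun i _ => by rw [hζs, inv_mul_cancel_left₀ hl], Finset.sum_add_distrib,
      Finset.sum_const, Finset.card_range, nsmul_eq_mul, ← Finset.mul_sum]
    obtain ⟨j, rfl⟩ := he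
    show lam x + l * φ l * μ x = ((2 * j + 1 : ℕ) : F) * lam x + l * φ l * μ x
    rw [Nat.cast_add, Nat.cast_mul, Nat.cast_ofNat, Nat.cast_one, CharTwo.two_eq_zero, zero_mul, zero_add, one_mul]
  refine ⟨fun X => mk X.1 (X.2 + μ X.1), ⟨fun X Y h => ?_, fun p => ?_⟩, fun X Y => ?_, fun X => ?_⟩
  · obtain ⟨e1, e2⟩ := mk_inj h
    rw [e1] at e2
    exact Prod.ext e1 (add_right_cancel e2)
  · obtain ⟨⟨x, y⟩, hxy⟩ := (ι p).2
    refine ⟨(x, y + μ x), ?_⟩
    rw [mk_ext p x y hxy.symm]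
    show mk x (y + μ x + μ x) = mk x y
    rw [add_assoc, CharTwo.add_self_eq_zero, add_zero]
  · rw [mk_mul]
    simp only [mulP, hμadd]
    congr 1
    ring
  · rw [hk]
    simp only [dP]
    congr 1
    rw [← hμ]
    ring

end Section

variable {G : Type u} [Group G] [Fintype G] {Ω : Type v} [MulAction G Ω] [Fintype Ω]

theorem exists_coord (S : SuzukiZT.Hyp G Ω) :
    ∃ (F : Type) (_ : Field F) (_ : Fintype F) (_ : CharP F 2) (φ : F ≃+* F),
      Fintype.card F = S.q ∧ Nonempty (Coord G F φ) := by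
  classical
  haveI := S.simple
  have hodd : ∀ c d : Ω, c ≠ d → Odd (Nat.card (ZassenhausOdd.D (G := G) c d)) := fun _ _ hcd =>
    ZassenhausOdd.card_D_eq S.P.isZ S.P.hab hcd ▸ S.odd_e
  haveI : IsCyclic S.P.E := (Cfsg.Agent.S0345.result S.P.isZ S.P.hab).1
  obtain ⟨d₀, hd₀⟩ := IsCyclic.exists_generator (α := S.P.E)
  have hord : orderOf d₀ = S.e := orderOf_eq_card_of_forall_mem_zpowers hd₀
  have hK : Nat.card S.P.K = S.q ^ 2 := by rw [S.P.card_K]; exact S.h_eq_sq
  have hne : ∃ x y : S.P.K, x * y ≠ y * x := by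
    obtain ⟨u, hu, v, hv, hne⟩ := S.na
    exact ⟨⟨⟨u, S.P.le hu⟩, Subgroup.mem_subgroupOf.mpr hu⟩, ⟨⟨v, S.P.le hv⟩, Subgroup.mem_subgroupOf.mpr hv⟩,
      fun e => hne (congrArg (fun z : S.P.K => ((z : S.P.A) : G)) e)⟩
  have hyp : SuzukiTwo.Hyp S.P.K (S.conj d₀) := by
    refine ⟨S.pg.of_equiv (Subgroup.subgroupOfEquivOfLe S.P.le).symm, fun x y hx1 hx hy1 hy => ?_, ?_⟩
    · obtain ⟨d, hd⟩ := S.conj_trans hx1 hx hy1 hy
      obtain ⟨i, rfl⟩ := (mem_powers_iff_mem_zpowers).mpr (hd₀ d)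
      exact ⟨i, by rw [← map_pow]; exact hd⟩
    · haveI : Nontrivial {z : S.P.K // z ≠ 1 ∧ z * z = 1} := by
        rw [← Finite.one_lt_card_iff_nontrivial, S.card_involutions]
        exact S.P.two_le_E
      obtain ⟨x, y, hne⟩ := exists_pair_ne {z : S.P.K // z ≠ 1 ∧ z * z = 1}
      exact ⟨x, y, fun e => hne (Subtype.ext e), x.2.1, x.2.2, y.2.1, y.2.2⟩
  obtain ⟨F, iF, iFt, iC, φ, ⟨hcard, -, -⟩, ι, l, hl0, hl, h₁, h₂⟩ :=
    SuzukiTwo.exists_typeA_scaled hyp hne hK
  let lu : Fˣ := Units.mk0 l hl0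
  have hlu : ∀ x : Fˣ, x ∈ Subgroup.zpowers lu := fun x => by
    obtain ⟨i, hi⟩ := hl x x.ne_zero
    exact ⟨(i : ℤ), Units.ext (by simp [lu, hi])⟩
  have hul : orderOf lu = S.e := by
    rw [orderOf_eq_card_of_forall_mem_zpowers hlu, Nat.card_units, Nat.card_eq_fintype_card, hcard]
    show S.q - 1 = S.e
    have := S.q_eq
    omega
  obtain ⟨c, hcbij, hcmul, hck⟩ := exists_section φ (S.conj d₀) ι hl0 h₁ h₂ S.odd_e
    (by rw [← hul, show l = (lu : F) from rfl, ← Units.val_pow_eq_pow_val, pow_orderOf_eq_one, Units.val_one])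
    (by rw [← map_pow, ← hord, pow_orderOf_eq_one, map_one])
  let η : Fˣ →* S.P.E := monoidHomOfForallMemZpowers hlu (g' := d₀) (by rw [hul, hord])
  have hη : η lu = d₀ := monoidHomOfForallMemZpowers_apply_gen _ _
  have hηs : Function.Surjective η := fun d => by
    obtain ⟨i, rfl⟩ := hd₀ d
    exact ⟨lu ^ i, by rw [map_zpow, hη]⟩
  have hηk : ∀ (x : Fˣ) (X : F × F), S.conj (η x) (c X) = c (dP φ (x : F) X) := by
    intro x X
    obtain ⟨i, rfl⟩ := (mem_powers_iff_mem_zpowers).mpr (hlu x)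
    show S.conj (η (lu ^ i)) (c X) = c (dP φ ((lu ^ i : Fˣ) : F) X)
    induction i with
    | zero => rw [pow_zero, map_one, map_one, Units.val_one, dP_one]; rfl
    | succ i ih =>
      rw [pow_succ', map_mul, map_mul, MulAut.mul_apply, ih, hη, hck, dP_mul, Units.val_mul]
      rfl
  obtain ⟨w, hww, hwa, hwb⟩ := ZassenhausOdd.exists_swap S.P.isZ hodd S.P.hab
  have hinv := ZassenhausOdd.swap_inverts S.P.isZ hodd S.P.hab hww hwa hwb
  let p : F × F → G := fun X => ((c X : S.P.A) : G)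
  have hpH : ∀ X, p X ∈ S.P.H := fun X => Subgroup.mem_subgroupOf.mp (c X).2
  have hpa : ∀ X, p X • S.P.a = S.P.a := fun X => S.P.mem_A.mp (S.P.le (hpH X))
  have hpinj : Function.Injective p := fun X Y h => hcbij.1 (Subtype.ext (Subtype.ext h))
  have hpsurj : ∀ u ∈ S.P.H, ∃ X, p X = u := fun u hu => by
    obtain ⟨X, hX⟩ := hcbij.2 ⟨⟨u, S.P.le hu⟩, Subgroup.mem_subgroupOf.mpr hu⟩
    exact ⟨X, congrArg (fun z : S.P.K => ((z : S.P.A) : G)) hX⟩
  let e : Fˣ →* G := S.P.E.subtype.comp η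
  have hea : ∀ x, e x • S.P.a = S.P.a ∧ e x • S.P.b = S.P.b := fun x => S.P.mem_E.mp (η x).2
  have hwe : ∀ x, w * e x = (e x)⁻¹ * w := fun x => mul_inv_eq_iff_eq_mul.mp (hinv _ (η x).2)
  have heconj : ∀ x X, e x * p X * (e x)⁻¹ = p (dP φ (x : F) X) := fun x X => by
    show _ = ((c (dP φ (x : F) X) : S.P.A) : G)
    rw [← hηk, S.conj_val]
    rfl
  refine ⟨F, iF, iFt, iC, φ, hcard, ⟨{
    p := p
    p_mul := fun X Y => by
      show ((c X : S.P.A) : G) * ((c Y : S.P.A) : G) = ((c (mulP φ X Y) : S.P.A) : G)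
      rw [← hcmul]
      rfl
    e := e
    e_conj := heconj
    w := w
    w_sq := hww
    w_e := hwe
    uniq := ?_
    out := ?_
    cover := ?_ }⟩⟩
  · intro a x b a' x' b' h
    have h1 := congrArg (fun g : G => g • S.P.a) h
    simp only [mul_smul, hpa, hwa, (hea x).2, (hea x').2] at h1
    obtain rfl : a = a' := hpinj (S.P.inj_smul (hpH a) (hpH a') S.P.hab.symm h1)
    have h3 : e x * w * p b = e x' * w * p b' := mul_left_cancel (a := p a) (by simpa only [mul_assoc] using h)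
    have h4 : p b * (p b')⁻¹ = e (x * x'⁻¹) := by
      have : p b = w * e (x⁻¹ * x') * w * p b' := by
        calc p b = (w * w) * p b := by rw [hww, one_mul]
          _ = w * (e x)⁻¹ * (e x * w * p b) := by group
          _ = _ := by rw [h3, map_mul, map_inv]; group
      rw [this, mul_inv_cancel_right, hwe, mul_assoc, hww, mul_one, ← map_inv, mul_inv_rev, inv_inv, mul_comm]
    have h5 := S.P.disjoint (mul_mem (hpH b) (inv_mem (hpH b'))) (h4 ▸ (η (x * x'⁻¹)).2)
    have h6 : η (x * x'⁻¹) = 1 := Subtype.ext (h4.symm.trans h5)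
    have hinj : Function.Injective η := by
      have hc : Nat.card Fˣ = Nat.card S.P.E := by
        rw [← orderOf_eq_card_of_forall_mem_zpowers hlu, hul]
      exact (hηs.bijective_of_nat_card_le hc.le).1
    exact ⟨rfl, mul_inv_eq_one.mp (hinj (h6.trans (map_one η).symm)), hpinj (mul_inv_eq_one.mp h5)⟩
  · intro a x h
    have h1 := congrArg (fun g : G => g • S.P.a) h
    simp only [mul_smul, hpa, (hea x).1, hwa] at h1
    exact S.P.hab h1
  · intro g
    by_cases hg : g • S.P.a = S.P.a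
    · obtain ⟨u, hu, d, hd, rfl⟩ := S.P.decomp (S.P.mem_A.mpr hg)
      obtain ⟨X, rfl⟩ := hpsurj u hu
      obtain ⟨x, hx⟩ := hηs ⟨d, hd⟩
      exact Or.inl ⟨X, x, by rw [show e x = d from congrArg Subtype.val hx]⟩
    · obtain ⟨u, hu, hub⟩ := S.P.exists_move hg
      obtain ⟨X, rfl⟩ := hpsurj u hu
      have h2 : w * (p X)⁻¹ * g ∈ S.P.A := S.P.mem_A.mpr (by
        rw [mul_smul, mul_smul, ← hub, inv_smul_smul, hwb])
      obtain ⟨u', hu', d, hd, hud⟩ := S.P.decomp h2
      obtain ⟨Y, rfl⟩ := hpsurj u' hu'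
      obtain ⟨x, hx⟩ := hηs ⟨d, hd⟩
      refine Or.inr ⟨X, x⁻¹, dP φ ((x⁻¹ : Fˣ) : F) Y, ?_⟩
      have hg' : g = p X * w * (p Y * e x) := by
        rw [show e x = d from congrArg Subtype.val hx, ← hud,
          ← mul_assoc, ← mul_assoc, mul_assoc (p X) w w, hww, mul_one, mul_inv_cancel, one_mul]
      have hYx : p Y * e x = e x * p (dP φ ((x⁻¹ : Fˣ) : F) Y) := by
        rw [← heconj, map_inv, inv_inv]; group
      rw [hg', hYx, ← mul_assoc, mul_assoc (p X) w, hwe, map_inv]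
      group

/-- A simple Zassenhaus group with non-abelian kernel of two-power order is a Suzuki group. -/
theorem exists_equiv_sz (S : SuzukiZT.Hyp G Ω) :
    ∃ (F : Type) (_ : Field F) (_ : Fintype F) (m : ℕ), 1 ≤ m ∧ Fintype.card F = 2 ^ (2 * m + 1) ∧
      Fintype.card F = S.q ∧ Nonempty (G ≃* ↥(Cfsg.Lie.Sz F (2 ^ (m + 1)))) := by
  obtain ⟨n, ⟨m, rfl⟩, h1, hq⟩ := S.q_odd_pow
  obtain ⟨F, iF, iFt, iC, φ, hcard, ⟨C⟩⟩ := exists_coord S
  have hm : 1 ≤ m := by omega
  have hF : Fintype.card F = 2 ^ (2 * m + 1) := hcard.trans hq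
  obtain ⟨e⟩ := nonempty_equiv_sz hF hm C (by
    rw [S.P.card_G]
    show (S.h + 1) * S.h * S.e = _
    rw [S.h_eq_sq, show S.e = S.q - 1 from by have := S.q_eq; omega, hq]
    ring)
  exact ⟨F, iF, iFt, m, hm, hF, hcard, ⟨e.trans (CfsgLib.Suzuki.lieEquiv hF hm)⟩⟩

end CfsgLib.SuzukiUnique
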