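import Cfsg.Agent.Lib.SuzukiZT.Square
import Cfsg.Agent.S0344
import Cfsg.Agent.S0738
import Cfsg.Agent.S0727
import Cfsg.Agent.S0265
import Cfsg.Agent.S0885
import Cfsg.Agent.Lib.PrimeGraphExt
import Cfsg.Agent.Lib.Perm.ZassenhausAbelian
import Cfsg.Agent.Lib.SuzukiUnique.FromHyp

/-!
Simple Zassenhaus groups up to isomorphism.
-/

set_option autoImplicit false

namespace CfsgLib.SuzukiUnique

/-- A simple Zassenhaus group is `PSL₂(F)` or a Suzuki group, up to isomorphism. -/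
theorem zassenhaus_iso {G Ω : Type*} [Group G] [Finite G] [MulAction G Ω]
    [Finite Ω] (hZ : Cfsg.IsZassenhausGroup G Ω) [IsSimpleGroup G] :
    (∃ (F : Type) (_ : Field F) (_ : Fintype F), Nonempty (G ≃* Matrix.ProjectiveSpecialLinearGroup (Fin 2) F)) ∨ Cfsg.Lie.IsoSuzuki G := by
  classical
  letI := Fintype.ofFinite G
  letI := Fintype.ofFinite Ω
  haveI := hZ.1
  obtain ⟨P⟩ := CfsgLib.ZassenhausDegree.exists_datum hZ
  by_cases hev : Even (Nat.card P.E)
  · obtain ⟨F, iF, iFt, -, hiso⟩ := Cfsg.Agent.S0344.result hZ P.hab hev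
    exact Or.inl ⟨F, iF, iFt, hiso⟩
  rw [Nat.not_even_iff_odd] at hev
  have hcard := P.card
  have hreg : ∀ y z : Ω, y ≠ P.a → z ≠ P.a → ∃! u : P.H, (u : G) • y = z := by
    intro y z hy hz
    obtain ⟨u₁, hu₁, e₁⟩ := P.exists_move hy
    obtain ⟨u₂, hu₂, e₂⟩ := P.exists_move hz
    refine ⟨⟨u₂ * u₁⁻¹, mul_mem hu₂ (inv_mem hu₁)⟩, ?_, fun v hv => ?_⟩
    · show (u₂ * u₁⁻¹) • y = z
      rw [← e₁, mul_smul, inv_smul_smul, e₂]
    · refine Subtype.ext (P.inj_smul v.2 (mul_mem hu₂ (inv_mem hu₁)) hy ?_)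
      show (v : G) • y = (u₂ * u₁⁻¹) • y
      rw [hv, ← e₁, mul_smul, inv_smul_smul, e₂]
  rcases Cfsg.Agent.S0885.result hZ P.hab (Nat.card P.H) (Nat.card P.E) hcard.symm rfl hev P.H P.le P.card P.fix
    with hle | ⟨h2, ⟨u, v, huv⟩, -⟩
  · left
    have hn : (P.H.subgroupOf (MulAction.stabilizer G P.a)).Normal :=
      ⟨fun u hu x => Subgroup.mem_subgroupOf.mpr (P.conj_mem x.2 (Subgroup.mem_subgroupOf.mp hu))⟩
    obtain ⟨hab', p, f, hp, -, hpf⟩ :=
      Cfsg.Agent.S0738.result hZ P.hab (show Fintype.card Ω - 2 ≤ 2 * Nat.card P.E by omega) P.H P.le hn hreg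
    rcases CfsgLib.ZassenhausAbelian.cases hZ P.a P.H P.le hn hab' hreg with
      ⟨y, hy, hd, h3, hsharp⟩ | ⟨y, hy, -, p', f', K, iK, iKf, -, -, -, -, hiso⟩
    swap
    · exact ⟨K, iK, iKf, hiso⟩
    have hE : Nat.card P.E = Fintype.card Ω - 2 := (CfsgLib.ZassenhausOdd.card_D_eq hZ P.hab hy).trans hd
    have h2le := P.two_le
    have hf : 1 ≤ f := by
      by_contra h0
      rw [show f = 0 by omega, pow_zero] at hpf
      omega
    have hp2 : p = 2 := by
      by_contra hne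
      have hpodd : Odd (p ^ f) := (hp.odd_of_ne_two hne).pow
      rw [show p ^ f = Nat.card P.E + 1 by omega] at hpodd
      exact (Nat.not_even_iff_odd.mpr hpodd) hev.add_one
    subst hp2
    let φ := MulAction.toPermHom G Ω
    have hinj : Function.Injective φ := fun g g' e => eq_of_smul_eq_smul fun x : Ω => DFunLike.congr_fun e x
    have h3' : MulAction.IsMultiplyPretransitive φ.range Ω 3 := by
      refine ⟨fun x y => ?_⟩
      obtain ⟨g, hg⟩ := h3.exists_smul_eq x y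
      exact ⟨⟨φ g, g, rfl⟩, Function.Embedding.ext fun i => DFunLike.congr_fun hg i⟩
    have hsharp' : ∀ x : Fin 3 ↪ Ω, MulAction.stabilizer φ.range x = ⊥ := by
      intro x
      rw [Subgroup.eq_bot_iff_forall]
      rintro ⟨_, g, rfl⟩ hg
      rw [MulAction.mem_stabilizer_iff] at hg
      have hgx : g ∈ MulAction.stabilizer G x :=
        MulAction.mem_stabilizer_iff.mpr (Function.Embedding.ext fun i => DFunLike.congr_fun hg i)
      rw [hsharp x, Subgroup.mem_bot] at hgx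
      exact Subtype.ext (by show φ g = 1; rw [hgx, map_one])
    obtain ⟨F, iF, iFt, hF, ⟨e⟩⟩ := Cfsg.Agent.S0727.result hf hpf φ.range h3' hsharp'
    refine ⟨F, iF, iFt, ?_⟩
    haveI : CharP F 2 := by
      obtain ⟨p, hp⟩ := CharP.exists F
      haveI := hp
      obtain ⟨k, hpp, hk⟩ := FiniteField.card F p
      rw [hF] at hk
      have h2 : (2 : ℕ) ∣ p ^ (k : ℕ) := hk ▸ dvd_pow_self 2 (by omega)
      rw [(Nat.prime_dvd_prime_iff_eq Nat.prime_two hpp).mp (Nat.prime_two.dvd_of_dvd_pow h2)]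
      exact hp
    haveI : Finite (Matrix.ProjGenLinGroup (Fin 2) F) :=
      Finite.of_surjective _ Matrix.ProjGenLinGroup.mk_surjective
    have hbij : Function.Bijective (Matrix.SpecialLinearGroup.toPGL (n := Fin 2) (R := F)) := by
      rw [Nat.bijective_iff_injective_and_card]
      refine ⟨(MonoidHom.ker_eq_bot_iff _).mp ?_, (Cfsg.Agent.S0265.result 2).symm⟩
      rw [Matrix.SpecialLinearGroup.toPGL_ker, CfsgLib.PrimeGraphExt.center_eq_bot]
    exact ⟨(MonoidHom.ofInjective hinj).trans (e.trans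
      ((MulEquiv.ofBijective _ hbij).symm.trans CfsgLib.PrimeGraphExt.pslEquiv.symm))⟩
  · right
    let S : CfsgLib.SuzukiZT.Hyp G Ω :=
      ⟨P, inferInstance, h2, u, u.2, v, v.2, fun e => huv (Subtype.ext e)⟩
    obtain ⟨F, iF, iFt, m, hm, hF, -, he⟩ := exists_equiv_sz S
    exact ⟨F, iF, iFt, m, hm, hF, he⟩

end CfsgLib.SuzukiUnique
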