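import Cfsg.Agent.Lib.SuzukiUnique.Field

/-!
Groups with a split pair of rank one whose unipotent part is a Suzuki 2-group of type A in coordinates.
-/

set_option autoImplicit false

namespace CfsgLib.SuzukiUnique

variable {F : Type*} [Field F]

/-- The multiplication of type A. -/
def mulP (φ : F ≃+* F) (X Y : F × F) : F × F := (X.1 + Y.1, X.2 + Y.2 + φ X.1 * Y.1)

/-- The inverse in type A. -/
def invP (φ : F ≃+* F) (X : F × F) : F × F := (X.1, X.2 + φ X.1 * X.1)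

/-- The scaling of type A. -/
def dP (φ : F ≃+* F) (l : F) (X : F × F) : F × F := (l * X.1, l * φ l * X.2)

/-- A group generated by type A coordinates, a torus and a reversing involution, with unique normal form. -/
structure Coord (G : Type*) [Group G] (F : Type*) [Field F] (φ : F ≃+* F) where
  p : F × F → G
  p_mul : ∀ X Y, p X * p Y = p (mulP φ X Y)
  e : Fˣ →* G
  e_conj : ∀ (l : Fˣ) X, e l * p X * (e l)⁻¹ = p (dP φ (l : F) X)
  w : G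
  w_sq : w * w = 1
  w_e : ∀ l : Fˣ, w * e l = (e l)⁻¹ * w
  uniq : ∀ a l b a' l' b', p a * e l * w * p b = p a' * e l' * w * p b' → a = a' ∧ l = l' ∧ b = b'
  out : ∀ a l, p a * e l ≠ w
  cover : ∀ g : G, (∃ a l, g = p a * e l) ∨ ∃ a l b, g = p a * e l * w * p b

variable {φ : F ≃+* F}

theorem dP_mul (l k : F) (X : F × F) : dP φ l (dP φ k X) = dP φ (l * k) X := by
  simp only [dP, map_mul, Prod.mk.injEq]
  exact ⟨by ring, by ring⟩

theorem dP_one (X : F × F) : dP φ 1 X = X := by simp [dP]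

theorem dP_inj (H : OddField F) [Finite F] [CharP F 2] {l k : F} (hl : l ≠ 0) (hk : k ≠ 0) {X : F × F} (hX : X ≠ 0)
    (h : dP φ l X = dP φ k X) : l = k := by
  simp only [dP, Prod.mk.injEq] at h
  by_cases h1 : X.1 = 0
  · have h2 : X.2 ≠ 0 := fun h2 => hX (Prod.ext h1 h2)
    have e := mul_right_cancel₀ h2 h.2
    set t := l / k with ht
    have hlt : l = t * k := by rw [ht]; field_simp
    have hφk : φ k ≠ 0 := (map_ne_zero φ).mpr hk
    have e1 : t * φ t = 1 := by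
      rw [hlt, map_mul] at e
      refine mul_right_cancel₀ (mul_ne_zero hk hφk) ?_
      linear_combination e
    have ht0 : t ≠ 0 := fun h0 => by simp [h0] at e1
    have e2 : φ t * φ (φ t) = 1 := by rw [← map_mul, e1, map_one]
    have e3 := fixed_of_sq φ H (x := t) (mul_left_cancel₀ ((map_ne_zero φ).mpr ht0) (by
      linear_combination e2 - e1))
    rw [e3] at e1
    have e4 : t = 1 := CharTwo.sq_injective (show t ^ 2 = (1 : F) ^ 2 by rw [one_pow, sq, e1])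
    rw [hlt, e4, one_mul]
  · exact mul_right_cancel₀ h1 h.1

theorem norm_injective (H : OddField F) [Finite F] [CharP F 2] {x y : F} (h : x * φ x = y * φ y) : x = y := by
  by_cases hx : x = 0
  · rw [hx, zero_mul, eq_comm, mul_eq_zero, map_eq_zero, or_self] at h
    rw [hx, h]
  by_cases hy : y = 0
  · rw [hy, zero_mul, mul_eq_zero, map_eq_zero, or_self] at h
    exact absurd h hx
  exact dP_inj (φ := φ) H hx hy (X := (0, 1)) (by simp) (by simp [dP, h])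

theorem exists_norm (H : OddField F) [Finite F] [CharP F 2] (φ : F ≃+* F) (t : F) : ∃ x : F, x * φ x = t :=
  (Finite.injective_iff_surjective.mp fun _ _ => norm_injective (φ := φ) H) t

namespace Coord

variable {G : Type*} [Group G] (C : Coord G F φ)

theorem p_zero : C.p 0 = 1 := by
  have h := C.p_mul 0 0
  rw [show mulP φ 0 0 = (0 : F × F) by simp [mulP]] at h
  exact mul_eq_left.mp h

theorem p_injective : Function.Injective C.p := fun a b h =>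
  (C.uniq a 1 0 b 1 0 (by rw [h])).1

theorem e_injective : Function.Injective C.e := fun a b h =>
  (C.uniq 0 a 0 0 b 0 (by rw [h])).2.1

theorem pe_injective {a a' : F × F} {l l' : Fˣ} (h : C.p a * C.e l = C.p a' * C.e l') : a = a' ∧ l = l' := by
  have := C.uniq a l 0 a' l' 0 (by rw [h])
  exact ⟨this.1, this.2.1⟩

theorem w_inv : C.w⁻¹ = C.w := inv_eq_of_mul_eq_one_left C.w_sq

theorem e_p (l : Fˣ) (X : F × F) : C.e l * C.p X = C.p (dP φ (l : F) X) * C.e l := by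
  rw [← C.e_conj, inv_mul_cancel_right]

theorem p_e (l : Fˣ) (X : F × F) : C.p X * C.e l = C.e l * C.p (dP φ ((l⁻¹ : Fˣ) : F) X) := by
  rw [C.e_p, dP_mul, ← Units.val_mul, mul_inv_cancel, Units.val_one, dP_one]

theorem w_e' (l : Fˣ) : C.w * C.e l = C.e l⁻¹ * C.w := by rw [C.w_e, map_inv]

variable [CharP F 2]

theorem p_inv (X : F × F) : (C.p X)⁻¹ = C.p (invP φ X) := by
  refine inv_eq_of_mul_eq_one_right ?_
  rw [C.p_mul, ← C.p_zero]
  refine congrArg C.p (Prod.ext ?_ ?_)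
  · exact CharTwo.add_self_eq_zero _
  · show X.2 + (X.2 + φ X.1 * X.1) + φ X.1 * X.1 = 0
    linear_combination (X.2 + φ X.1 * X.1) * (CharTwo.two_eq_zero : (2 : F) = 0)

/-- `w p(X) w` has the normal form given by `f`, `h`, `g`. -/
def Eq3 (X f : F × F) (h : Fˣ) (g : F × F) : Prop := C.w * C.p X * C.w = C.p f * C.e h * C.w * C.p g

/-- The last coordinate of `w p(X) w`. -/
def Img (X g : F × F) : Prop := ∃ f h, C.Eq3 X f h g

variable {C}

omit [CharP F 2] in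
theorem Eq3.unique {X f g f' g' : F × F} {h h' : Fˣ} (e₁ : C.Eq3 X f h g) (e₂ : C.Eq3 X f' h' g') :
    f = f' ∧ h = h' ∧ g = g' := C.uniq _ _ _ _ _ _ (e₁.symm.trans e₂)

omit [CharP F 2] in
theorem Img.unique {X g g' : F × F} (e₁ : C.Img X g) (e₂ : C.Img X g') : g = g' := by
  obtain ⟨_, _, e₁⟩ := e₁
  obtain ⟨_, _, e₂⟩ := e₂
  exact (e₁.unique e₂).2.2

omit [CharP F 2] in
theorem exists_eq3 {X : F × F} (hX : X ≠ 0) : ∃ f h g, C.Eq3 X f h g := by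
  rcases C.cover (C.w * C.p X * C.w) with ⟨a, l, e⟩ | ⟨a, l, b, e⟩
  · exfalso
    have h1 : C.p 0 * C.e 1 * C.w * C.p X = C.p a * C.e l * C.w * C.p 0 := by
      rw [map_one, C.p_zero, one_mul, one_mul, mul_one, ← e, mul_assoc, C.w_sq, mul_one]
    exact hX (C.uniq _ _ _ _ _ _ h1).2.2
  · exact ⟨a, l, b, e⟩

omit [CharP F 2] in
theorem Eq3.smul {X f g : F × F} {h : Fˣ} (e : C.Eq3 X f h g) (l : Fˣ) :
    C.Eq3 (dP φ (l : F) X) (dP φ ((l⁻¹ : Fˣ) : F) f) (l⁻¹ * h * l⁻¹) (dP φ ((l⁻¹ : Fˣ) : F) g) := by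
  have hp : C.p (dP φ (l : F) X) = C.e l * C.p X * (C.e l)⁻¹ := (C.e_conj l X).symm
  have hw : (C.e l)⁻¹ * C.w = C.w * C.e l := (C.w_e l).symm
  have hr : ∀ Y : F × F, C.p Y * C.e l = C.e l * C.p (dP φ ((l⁻¹ : Fˣ) : F) Y) := C.p_e l
  unfold Eq3 at e ⊢
  calc C.w * C.p (dP φ (l : F) X) * C.w = (C.w * C.e l) * C.p X * ((C.e l)⁻¹ * C.w) := by rw [hp]; group
    _ = C.e l⁻¹ * (C.w * C.p X * C.w) * C.e l := by rw [C.w_e', hw]; group
    _ = (C.e l⁻¹ * C.p f) * C.e h * C.w * (C.p g * C.e l) := by rw [e]; group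
    _ = C.p (dP φ ((l⁻¹ : Fˣ) : F) f) * (C.e l⁻¹ * C.e h) * (C.w * C.e l) * C.p (dP φ ((l⁻¹ : Fˣ) : F) g) := by
      rw [C.e_p, hr]; group
    _ = _ := by rw [C.w_e', map_mul, map_mul]; group

theorem Eq3.swap {X f g : F × F} {h : Fˣ} (e : C.Eq3 X f h g) :
    C.Eq3 g (dP φ ((h⁻¹ : Fˣ) : F) (invP φ f)) h⁻¹ X := by
  unfold Eq3 at e ⊢
  have h1 : C.p g = C.w⁻¹ * (C.e h)⁻¹ * (C.p f)⁻¹ * (C.w * C.p X * C.w) := by rw [e]; group
  rw [h1, C.p_inv, ← map_inv, ← C.e_p]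
  calc C.w * (C.w⁻¹ * C.e h⁻¹ * C.p (invP φ f) * (C.w * C.p X * C.w)) * C.w
      = C.e h⁻¹ * C.p (invP φ f) * C.w * C.p X * (C.w * C.w) := by group
    _ = _ := by rw [C.w_sq, mul_one]

theorem Eq3.inv {X f g : F × F} {h : Fˣ} (e : C.Eq3 X f h g) : C.Eq3 (invP φ X) (invP φ g) h (invP φ f) := by
  have e' := congrArg (·⁻¹) e
  simp only [mul_inv_rev, C.w_inv, C.p_inv] at e'
  unfold Eq3
  rw [mul_assoc, e', ← map_inv, ← mul_assoc C.w, C.w_e', inv_inv]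
  group

theorem Img.swap {X g : F × F} (e : C.Img X g) : C.Img g X := by
  obtain ⟨f, h, e⟩ := e
  exact ⟨_, _, e.swap⟩

omit [CharP F 2] in
theorem Img.smul {X g : F × F} (e : C.Img X g) (l : Fˣ) :
    C.Img (dP φ (l : F) X) (dP φ ((l⁻¹ : Fˣ) : F) g) := by
  obtain ⟨f, h, e⟩ := e
  exact ⟨_, _, e.smul l⟩

omit [CharP F 2] in
/-- The last coordinate at a product of the outer coordinates of two elements. -/
theorem Eq3.pair {X₁ X₂ X₃ f₁ f₂ f₃ g₁ g₂ g₃ : F × F} {h₁ h₂ h₃ : Fˣ} (e₁ : C.Eq3 X₁ f₁ h₁ g₁)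
    (e₂ : C.Eq3 X₂ f₂ h₂ g₂) (e₃ : C.Eq3 X₃ f₃ h₃ g₃) (h12 : mulP φ X₁ X₂ = X₃) [CharP F 2] :
    C.Img (mulP φ g₁ f₂) (dP φ ((h₂⁻¹ : Fˣ) : F) (mulP φ g₃ (invP φ g₂))) := by
  refine ⟨dP φ ((h₁⁻¹ : Fˣ) : F) (mulP φ (invP φ f₁) f₃), h₁⁻¹ * h₃ * h₂⁻¹, ?_⟩
  have key : (C.w * C.p X₁ * C.w) * (C.w * C.p X₂ * C.w) = C.w * C.p X₃ * C.w := by
    rw [← h12, ← C.p_mul]
    calc (C.w * C.p X₁ * C.w) * (C.w * C.p X₂ * C.w) = C.w * C.p X₁ * (C.w * C.w) * C.p X₂ * C.w := by group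
      _ = _ := by rw [C.w_sq]; group
  rw [e₁, e₂, e₃] at key
  unfold Eq3
  calc C.w * C.p (mulP φ g₁ f₂) * C.w
      = (C.e h₁)⁻¹ * (C.p f₁)⁻¹ * ((C.p f₁ * C.e h₁ * C.w * C.p g₁) * (C.p f₂ * C.e h₂ * C.w * C.p g₂)) *
          (C.p g₂)⁻¹ * (C.w⁻¹ * (C.e h₂)⁻¹ * C.w) := by rw [← C.p_mul]; group
    _ = (C.e h₁⁻¹ * C.p (mulP φ (invP φ f₁) f₃)) * C.e h₃ * C.w * (C.p (mulP φ g₃ (invP φ g₂)) * C.e h₂) := by
      rw [key, C.w_inv, ← map_inv C.e h₂, C.w_e', inv_inv, ← map_inv C.e h₁, ← C.p_mul, ← C.p_mul, ← C.p_inv,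
        ← C.p_inv, show C.e h₂ * C.w * C.w = C.e h₂ by rw [mul_assoc, C.w_sq, mul_one]]
      group
    _ = C.p (dP φ ((h₁⁻¹ : Fˣ) : F) (mulP φ (invP φ f₁) f₃)) * (C.e h₁⁻¹ * C.e h₃) * (C.w * C.e h₂) *
          C.p (dP φ ((h₂⁻¹ : Fˣ) : F) (mulP φ g₃ (invP φ g₂))) := by
      rw [C.e_p, C.p_e h₂]; group
    _ = _ := by rw [C.w_e', map_mul, map_mul]; group

/-- The last coordinate of the product of a last coordinate and an element. -/
theorem Eq3.mul_right {a f g T fT gT f' g' : F × F} {h hT h' : Fˣ} (e₁ : C.Eq3 a f h g)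
    (e₂ : C.Eq3 T fT hT gT) (e₃ : C.Eq3 (mulP φ a fT) f' h' g') :
    C.Img (mulP φ g T) (mulP φ (dP φ (hT : F) g') gT) := by
  have s := e₁.swap
  refine ⟨mulP φ (dP φ ((h⁻¹ : Fˣ) : F) (invP φ f)) (dP φ ((h⁻¹ : Fˣ) : F) f'), h⁻¹ * h' * hT, ?_⟩
  unfold Eq3 at s e₂ e₃ ⊢
  calc C.w * C.p (mulP φ g T) * C.w = C.w * C.p g * (C.w * C.w) * C.p T * C.w := by
        rw [C.w_sq, ← C.p_mul]; group
    _ = (C.w * C.p g * C.w) * (C.w * C.p T * C.w) := by group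
    _ = C.p (dP φ ((h⁻¹ : Fˣ) : F) (invP φ f)) * C.e h⁻¹ * C.w * C.p (mulP φ a fT) *
          (C.e hT * C.w) * C.p gT := by rw [s, e₂, ← C.p_mul]; group
    _ = C.p (dP φ ((h⁻¹ : Fˣ) : F) (invP φ f)) * C.e h⁻¹ * (C.w * C.p (mulP φ a fT) * C.w) *
          C.e hT⁻¹ * C.p gT := by
      rw [show C.e hT * C.w = C.w * C.e hT⁻¹ by rw [C.w_e', inv_inv]]; group
    _ = C.p (dP φ ((h⁻¹ : Fˣ) : F) (invP φ f)) * (C.e h⁻¹ * C.p f') * C.e h' * C.w *
          (C.p g' * C.e hT⁻¹) * C.p gT := by rw [e₃]; group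
    _ = (C.p (dP φ ((h⁻¹ : Fˣ) : F) (invP φ f)) * C.p (dP φ ((h⁻¹ : Fˣ) : F) f')) * C.e h⁻¹ * C.e h' *
          (C.w * C.e hT⁻¹) * (C.p (dP φ (hT : F) g') * C.p gT) := by
      rw [C.e_p, C.p_e hT⁻¹, inv_inv]; group
    _ = _ := by rw [C.p_mul, C.p_mul, C.w_e', inv_inv, map_mul, map_mul]; group

omit [CharP F 2] in
theorem Eq3.img {X f g : F × F} {h : Fˣ} (e : C.Eq3 X f h g) : C.Img X g := ⟨f, h, e⟩

end Coord

end CfsgLib.SuzukiUnique
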