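import Cfsg.Agent.Lib.SuzukiUnique.Normal

/-!
The functional equation forces the twist: the fixed field is prime, the parameters vanish and the square of the
automorphism is the square root.
-/

set_option autoImplicit false
set_option linter.unusedSectionVars false
set_option maxHeartbeats 1000000

namespace CfsgLib.SuzukiUnique

variable {F : Type*} [Field F] [Finite F] [CharP F 2] {φ : F ≃+* F}
variable {G : Type*} [Group G]

theorem aux_c3 {X m b P : F} (h : (X + P) * m * (1 + b + m) = X * (1 + m) * b) :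
    X * (m + m * m + b) = P * m * (1 + b + m) := by grind

theorem aux_shift {X b p : F} (h : X * (1 + b + p * b * b) = b * b * (1 + p + p * b)) :
    (X + b) * (1 + b + p * b * b) = b * (1 + b * p) := by grind

theorem aux_factor (b p P Q : F) :
    (1 + b * P) * ((b + Q * Q) * (1 + b * p + P) + b * Q * (p + P * P)) +
      ((1 + b * p + P) * (1 + P * b + Q) * (b + Q + b * P * Q) +
        (1 + b + p * b * b) * (Q * (1 + P + b * P * P))) = 0 := by grind

namespace Coord

variable {C : Coord G F φ} {c : F} {K : Fˣ}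

theorem central (hB : C.Base c K) (a : Fˣ) :
    C.Eq3 (0, (nrm φ (a : F))⁻¹) ((a : F), (c + 1) * nrm φ (a : F)) (a * K⁻¹ * a) ((a : F), c * nrm φ (a : F)) := by
  have ha : (a : F) ≠ 0 := a.ne_zero
  have e := Eq3.smul hB a⁻¹
  rw [inv_inv] at e
  convert e using 1 <;> simp [dP, nrm, mul_comm]

theorem one_inv (hB : C.Base c K) :
    C.Eq3 (1, c + 1) (0, 1) K (dP φ (K : F) (1, c + 1)) := by
  have e := (Eq3.swap hB).inv
  rw [inv_inv] at e
  have h2 : (2 : F) = 0 := CharTwo.two_eq_zero
  convert e using 1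
  · simp [invP]
  · simp [invP]
  · refine Prod.ext (by simp [invP, dP]) ?_
    simp only [invP, dP, map_one, map_mul, mul_one]
    linear_combination -(↑K * φ (↑K : F)) * h2

/-- The images of the non-central orbit representatives. -/
theorem par (H : OddField F) (hB : C.Base c K) {u : F} (hu0 : u ≠ 0) (hu1 : u ≠ 1) :
    ∃ v : F, v ≠ 0 ∧ v ≠ 1 ∧ nrm φ (1 + v⁻¹) * (1 + nrm φ (1 + u⁻¹)) = nrm φ (1 + u⁻¹) ∧
      C.Img (1, c + lin φ c u) ((K : F) / (u * v), nrm φ ((K : F) / (u * v)) * (c + lin φ c v)) := by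
  have h2 : (2 : F) = 0 := CharTwo.two_eq_zero
  set a := 1 + u⁻¹ with hadef
  have ha0 : a ≠ 0 := fun h => hu1 (by
    have : u⁻¹ = 1 := by linear_combination h - h2
    exact inv_eq_one.mp this)
  have ha1 : a ≠ 1 := fun h => inv_ne_zero hu0 (by linear_combination h)
  have hNa : 1 + nrm φ a ≠ 0 := fun h => ha1 (norm_injective (φ := φ) H (by
    rw [map_one, mul_one]
    show nrm φ a = 1
    linear_combination h - h2))
  have hNa0 := nrm_ne_zero (φ := φ) ha0
  obtain ⟨d, hd⟩ := exists_norm H φ (nrm φ a / (1 + nrm φ a))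
  have hd' : nrm φ d * (1 + nrm φ a) = nrm φ a := by rw [nrm, hd, div_mul_cancel₀ _ hNa]
  have hd0 : d ≠ 0 := fun h => hNa0 (by rw [← hd', h]; simp [nrm])
  have hd1 : d ≠ 1 := fun h => by
    rw [h, nrm_one, one_mul] at hd'
    exact one_ne_zero (α := F) (by linear_combination hd')
  have hv : d + 1 ≠ 0 := fun h => hd1 (by linear_combination h - h2)
  set v := (d + 1)⁻¹ with hvdef
  have hv0 : v ≠ 0 := inv_ne_zero hv
  have hdv : 1 + v⁻¹ = d := by rw [hvdef, inv_inv]; linear_combination h2
  refine ⟨v, hv0, fun h => hd0 (by rw [← hdv, h, inv_one]; linear_combination h2), by rw [hdv]; exact hd', ?_⟩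
  have e₁ := central hB (Units.mk0 a ha0)
  have e₃ := central hB (Units.mk0 d hd0)
  have hX : mulP φ (0, (nrm φ a)⁻¹) (0, 1) = ((0, (nrm φ d)⁻¹) : F × F) := by
    have hNd : nrm φ d ≠ 0 := nrm_ne_zero hd0
    refine Prod.ext (by simp [mulP]) ?_
    simp only [mulP, mul_zero, add_zero]
    field_simp
    linear_combination hd'
  obtain ⟨f, h, e⟩ := (Eq3.pair e₁ hB e₃ hX).smul (Units.mk0 u hu0)
  refine ⟨f, h, ?_⟩
  have hid := orbit_identity (φ := φ) c hu0
  have hiv := orbit_identity (φ := φ) c hv0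
  rw [hdv] at hiv
  have hu2 : a + 1 = u⁻¹ := by rw [hadef]; linear_combination h2
  have hd2 : d + 1 = v⁻¹ := by rw [hvdef, inv_inv]
  have hφu : φ u ≠ 0 := (map_ne_zero φ).mpr hu0
  have hφv : φ v ≠ 0 := (map_ne_zero φ).mpr hv0
  have eX : dP φ ((Units.mk0 u hu0 : Fˣ) : F) (mulP φ (((Units.mk0 a ha0 : Fˣ) : F), c * nrm φ ((Units.mk0 a ha0 : Fˣ) : F)) (1, c + 1)) =
      (1, c + lin φ c u) := by
    simp only [Units.val_mk0, mulP, mul_one]
    rw [← hadef] at hid
    rw [hu2, hid]
    refine Prod.ext ?_ ?_ <;> simp only [dP, nrm] <;> field_simp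
  have eg : dP φ (((Units.mk0 u hu0)⁻¹ : Fˣ) : F) (dP φ ((K⁻¹⁻¹ : Fˣ) : F)
      (mulP φ (((Units.mk0 d hd0 : Fˣ) : F), c * nrm φ ((Units.mk0 d hd0 : Fˣ) : F)) (invP φ (1, c)))) =
      ((K : F) / (u * v), nrm φ ((K : F) / (u * v)) * (c + lin φ c v)) := by
    simp only [Units.val_mk0, inv_inv, invP, map_one, mulP, mul_one, Units.val_inv_eq_inv_val]
    rw [hd2, hiv]
    refine Prod.ext ?_ ?_ <;> simp only [dP, nrm, map_div₀, map_mul, map_inv₀] <;> field_simp
  rw [eX, eg] at e
  exact e

/-- The equation from multiplying the fixed element with a central involution. -/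
theorem shift (hB : C.Base c K) (b : Fˣ) {g' : F × F}
    (hg : C.Img (1 + (b : F), (c + 1) * (1 + nrm φ (b : F)) + (b : F)) g') :
    C.Img ((K : F), (c + 1) * nrm φ (K : F) + (nrm φ (b : F))⁻¹)
      (mulP φ (dP φ ((b * K⁻¹ * b : Fˣ) : F) g') ((b : F), c * nrm φ (b : F))) := by
  obtain ⟨f', h', e₃⟩ := hg
  have e₃' : C.Eq3 (mulP φ (1, c + 1) ((b : F), (c + 1) * nrm φ (b : F))) f' h' g' := by
    convert e₃ using 1
    simp only [mulP, map_one, one_mul, Prod.mk.injEq]
    exact ⟨trivial, by ring⟩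
  have e := Eq3.mul_right (one_inv hB) (central hB b) e₃'
  convert e using 1
  simp only [mulP, dP, mul_one, mul_zero, add_zero, nrm, Prod.mk.injEq]
  exact ⟨trivial, by ring⟩

theorem fixed_trivial (H : OddField F) (hB : C.Base c K) {b : F} (hb : φ b = b) : b = 0 ∨ b = 1 := by
  by_contra hh
  push Not at hh
  obtain ⟨hb0, hb1⟩ := hh
  have h2 : (2 : F) = 0 := CharTwo.two_eq_zero
  have hK : (K : F) ≠ 0 := K.ne_zero
  have hφK : φ (K : F) ≠ 0 := (map_ne_zero φ).mpr hK
  have hb' : 1 + b ≠ 0 := fun h => hb1 (by linear_combination h - h2)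
  have hn : b * b + b + 1 ≠ 0 := no_omega H b
  have key : ∀ u : F, φ u = u → u ≠ 0 → u ≠ 1 → C.Img (1, c + u) ((K : F), nrm φ (K : F) * (c + u⁻¹)) := by
    intro u hu hu0 hu1
    obtain ⟨v, hv0, hv1, hrel, e⟩ := par H hB hu0 hu1
    have h1u : 1 + u⁻¹ ≠ 0 := fun h => hu1 (inv_eq_one.mp (by linear_combination h - h2))
    have hN : 1 + nrm φ (1 + u⁻¹) ≠ 0 := fun h => inv_ne_zero hu0 (by
      have := norm_injective (φ := φ) H (x := 1 + u⁻¹) (y := 1)
        (by rw [map_one, mul_one]; show nrm φ (1 + u⁻¹) = 1; linear_combination h - h2)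
      linear_combination this)
    have h2' : nrm φ (1 + u) * (1 + nrm φ (1 + u⁻¹)) = nrm φ (1 + u⁻¹) := by
      simp only [nrm, map_add, map_one, map_inv₀, hu]
      field_simp
      grind
    have hveq : v⁻¹ = u := by
      have := norm_injective (φ := φ) H (x := 1 + v⁻¹) (y := 1 + u) (mul_right_cancel₀ hN (hrel.trans h2'.symm))
      linear_combination this
    have hv : v = u⁻¹ := by rw [← hveq, inv_inv]
    rw [hv, mul_inv_cancel₀ hu0, div_one, lin_fixed c hu, lin_fixed c (show φ u⁻¹ = u⁻¹ by rw [map_inv₀, hu])] at e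
    exact e
  have eu : (b * b + b + 1) / ((1 + b) * (1 + b)) ≠ 1 := fun h => hb0 (by
    rw [div_eq_one_iff_eq (mul_ne_zero hb' hb')] at h
    linear_combination h + b * h2)
  have e₁ := (key ((b * b + b + 1) / ((1 + b) * (1 + b))) (by simp [hb]) (div_ne_zero hn (mul_ne_zero hb' hb'))
    eu).smul (Units.mk0 (1 + b) hb')
  have hin : dP φ ((Units.mk0 (1 + b) hb' : Fˣ) : F) (1, c + (b * b + b + 1) / ((1 + b) * (1 + b))) =
      (1 + b, (c + 1) * (1 + nrm φ b) + b) := by
    refine Prod.ext (by simp [dP]) ?_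
    simp only [dP, nrm, Units.val_mk0, map_add, map_one, hb]
    field_simp
    linear_combination (c * b) * h2
  rw [hin] at e₁
  have e₂ := shift hB (Units.mk0 b hb0) e₁
  set X := b / (1 + b) with hX
  have hX0 : X ≠ 0 := div_ne_zero hb0 hb'
  set V := b * (1 + b) / (b * b + b + 1) with hV
  have hV0 : V ≠ 0 := div_ne_zero (mul_ne_zero hb0 hb') hn
  have hV1 : V ≠ 1 := fun h => by
    rw [hV, div_eq_one_iff_eq hn] at h
    exact one_ne_zero (α := F) (by linear_combination -h)
  have hφX : φ X = X := by rw [hX, map_div₀, map_add, map_one, hb]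
  have hφV : φ V = V := by simp [hV, hb]
  have hout : mulP φ (dP φ ((Units.mk0 b hb0 * K⁻¹ * Units.mk0 b hb0 : Fˣ) : F)
      (dP φ (((Units.mk0 (1 + b) hb')⁻¹ : Fˣ) : F)
        ((K : F), nrm φ (K : F) * (c + ((b * b + b + 1) / ((1 + b) * (1 + b)))⁻¹))))
      (((Units.mk0 b hb0 : Fˣ) : F), c * nrm φ ((Units.mk0 b hb0 : Fˣ) : F)) = dP φ X (1, c + V) := by
    refine Prod.ext ?_ ?_
    · simp only [mulP, dP, Units.val_mul, Units.val_mk0, Units.val_inv_eq_inv_val, hX]
      field_simp
      linear_combination b * h2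
    · simp only [mulP, dP, nrm, Units.val_mul, Units.val_mk0, Units.val_inv_eq_inv_val, map_mul, map_inv₀, map_add,
        map_one, hb, hφX]
      rw [hX, hV]
      field_simp
      grind
  rw [hout] at e₂
  have e₃ := (key V hφV hV0 hV1).smul (Units.mk0 X hX0)
  have hc := congrArg Prod.fst (e₃.unique e₂.swap)
  simp only [dP, Units.val_inv_eq_inv_val, Units.val_mk0] at hc
  have : X⁻¹ = 1 := mul_right_cancel₀ hK (by rw [hc, one_mul])
  have hX1 : X = 1 := inv_eq_one.mp this
  rw [hX, div_eq_one_iff_eq hb'] at hX1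
  exact one_ne_zero (α := F) (by linear_combination -hX1)

theorem zero_or_one (H : OddField F) (hB : C.Base c K) : c = 0 ∨ c = 1 := by
  by_contra hh
  push Not at hh
  obtain ⟨hc0, hc1⟩ := hh
  have h2 : (2 : F) = 0 := CharTwo.two_eq_zero
  have hinj : Function.Injective fun v : F => φ v / v := by
    intro v w h
    simp only at h
    by_cases hv : v = 0
    · subst hv
      rw [map_zero, zero_div, eq_comm, div_eq_zero_iff, map_eq_zero, or_self] at h
      exact h.symm
    by_cases hw : w = 0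
    · subst hw
      rw [map_zero, zero_div, div_eq_zero_iff, map_eq_zero, or_self] at h
      exact absurd h hv
    have hfix : φ (v / w) = v / w := by
      have hφw : φ w ≠ 0 := (map_ne_zero φ).mpr hw
      rw [div_eq_div_iff hv hw] at h
      rw [map_div₀, div_eq_div_iff hφw hw, h, mul_comm]
    rcases fixed_trivial H hB hfix with e | e
    · exact absurd e (div_ne_zero hv hw)
    · exact (div_eq_one_iff_eq hw).mp e
  obtain ⟨v, hv⟩ := (Finite.injective_iff_surjective.mp hinj) ((c + 1) / c)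
  simp only at hv
  have hv0 : v ≠ 0 := fun h => by
    rw [h, map_zero, zero_div, eq_comm, div_eq_zero_iff] at hv
    exact hv.elim (fun e => hc1 (by linear_combination e - h2)) hc0
  have hl : lin φ c v = 0 := by
    rw [div_eq_div_iff hv0 hc0] at hv
    rw [lin]
    linear_combination hv + ((c + 1) * v) * h2
  have hv1 : v ≠ 1 := fun h => by
    rw [h, lin_one] at hl
    exact one_ne_zero hl
  obtain ⟨w, hw0, -, -, e⟩ := par H hB hv0 hv1
  rw [hl, add_zero] at e
  have hc := congrArg Prod.fst (e.unique (Eq3.img hB).swap)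
  exact div_ne_zero K.ne_zero (mul_ne_zero hv0 hw0) hc

/-- Exchanging the automorphism with its inverse. -/
def flip (C : Coord G F φ) : Coord G F φ.symm where
  p X := C.p (φ.symm X.1, X.2 + φ.symm X.1 * X.1)
  p_mul X Y := by
    rw [C.p_mul]
    refine congrArg C.p (Prod.ext ?_ ?_)
    · simp [mulP]
    · simp only [mulP, map_add, RingEquiv.apply_symm_apply]
      linear_combination (-(φ.symm X.1 * Y.1)) * (CharTwo.two_eq_zero : (2 : F) = 0)
  e := C.e.comp (Units.map (φ.symm : F →+* F).toMonoidHom)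
  e_conj l X := by
    rw [MonoidHom.comp_apply, C.e_conj]
    refine congrArg C.p (Prod.ext ?_ ?_) <;> simp [dP]
    ring
  w := C.w
  w_sq := C.w_sq
  w_e l := C.w_e _
  uniq a l b a' l' b' h := by
    obtain ⟨h1, h2, h3⟩ := C.uniq _ _ _ _ _ _ h
    have hi : ∀ X Y : F × F, (φ.symm X.1, X.2 + φ.symm X.1 * X.1) = (φ.symm Y.1, Y.2 + φ.symm Y.1 * Y.1) → X = Y := by
      intro X Y e
      obtain ⟨e1, e2⟩ := Prod.mk.injEq .. |>.mp e
      have e1' := φ.symm.injective e1
      rw [e1'] at e2
      exact Prod.ext e1' (add_right_cancel e2)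
    refine ⟨hi _ _ h1, Units.ext (φ.symm.injective ?_), hi _ _ h3⟩
    exact congrArg Units.val h2
  out a l := C.out _ _
  cover g := by
    have e : ∀ a : F × F, C.p a = C.p (φ.symm (φ a.1, a.2 + a.1 * φ a.1).1,
        (φ a.1, a.2 + a.1 * φ a.1).2 + φ.symm (φ a.1, a.2 + a.1 * φ a.1).1 * (φ a.1, a.2 + a.1 * φ a.1).1) :=
      fun a => congrArg C.p (Prod.ext (by simp) (by
        simp only [RingEquiv.symm_apply_apply]
        linear_combination (-(a.1 * φ a.1)) * (CharTwo.two_eq_zero : (2 : F) = 0)))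
    have e' : ∀ l : Fˣ, l = Units.map (φ.symm : F →+* F).toMonoidHom (Units.map (φ : F →+* F).toMonoidHom l) :=
      fun l => Units.ext (by simp)
    rcases C.cover g with ⟨a, l, h⟩ | ⟨a, l, b, h⟩
    · exact Or.inl ⟨(φ a.1, a.2 + a.1 * φ a.1), Units.map (φ : F →+* F).toMonoidHom l, by
        rw [MonoidHom.comp_apply, ← e', ← e]; exact h⟩
    · exact Or.inr ⟨(φ a.1, a.2 + a.1 * φ a.1), Units.map (φ : F →+* F).toMonoidHom l, (φ b.1, b.2 + b.1 * φ b.1), by
        rw [MonoidHom.comp_apply, ← e', ← e, ← e]; exact h⟩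

theorem flip_base (hB : C.Base 1 K) : C.flip.Base 0 (Units.map (φ : F →+* F).toMonoidHom K) := by
  have h2 : (2 : F) = 0 := CharTwo.two_eq_zero
  show C.w * C.p _ * C.w = C.p _ * C.e (Units.map _ _) * C.w * C.p _
  have hu : Units.map (φ.symm : F →+* F).toMonoidHom (Units.map (φ : F →+* F).toMonoidHom K)⁻¹ = K⁻¹ :=
    Units.ext (by simp)
  rw [hu]
  simp only [map_zero, map_one, mul_zero, add_zero, zero_add, mul_one, one_mul]
  rw [show (1 : F) + 1 = 0 by linear_combination h2]
  have hB' : C.w * C.p (0, 1) * C.w = C.p (1, 1 + 1) * C.e K⁻¹ * C.w * C.p (1, 1) := hB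
  rwa [show (1 : F) + 1 = 0 by linear_combination h2] at hB'

theorem unit_one (H : OddField F) (hB : C.Base 0 K) : K = 1 := by
  by_contra hK1
  have h2 : (2 : F) = 0 := CharTwo.two_eq_zero
  have hK : (K : F) ≠ 0 := K.ne_zero
  have hφK : φ (K : F) ≠ 0 := (map_ne_zero φ).mpr hK
  have e₁ := shift hB 1 (g' := (1, 0)) (by
    have h : C.Img (0, 1) (1, 0) := Eq3.img hB
    convert h using 1
    simp [nrm_one, CharTwo.add_self_eq_zero])
  set m := nrm φ (K : F) with hm
  have hm0 : m ≠ 0 := nrm_ne_zero hK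
  have hm1 : 1 + m⁻¹ ≠ 0 := fun h => hK1 (Units.ext (norm_injective (φ := φ) H (x := (K : F)) (y := 1) (by
    rw [map_one, mul_one]
    show m = 1
    exact inv_eq_one.mp (by linear_combination h - h2))))
  obtain ⟨v, hv0, -, -, e₂⟩ := par H hB hm1 (fun h => inv_ne_zero hm0 (by linear_combination h))
  have e₃ := e₂.smul K
  have hin : dP φ (K : F) (1, 0 + lin φ 0 (1 + m⁻¹)) =
      ((K : F), (0 + 1) * nrm φ (K : F) + (nrm φ ((1 : Fˣ) : F))⁻¹) := by
    refine Prod.ext (by simp [dP]) ?_
    simp only [dP, lin, Units.val_one, hm, nrm, map_one]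
    field_simp
    ring
  rw [hin] at e₃
  have hc := e₃.unique e₁
  simp only [dP, mulP, lin, nrm, Units.val_inv_eq_inv_val, Units.val_mul, Units.val_one, map_one, map_inv₀, map_div₀,
    map_mul, Prod.mk.injEq, one_mul, mul_one, zero_mul, mul_zero, add_zero, zero_add] at hc
  obtain ⟨c1, c2⟩ := hc
  set u := 1 + m⁻¹ with hu
  have c1' : (1 : F) / (u * v) = (K : F)⁻¹ + 1 := by rw [← c1]; field_simp
  have c3 : φ (1 / (u * v)) / u = (φ (K : F))⁻¹ := by
    rw [← c2, map_div₀, map_one, map_mul]
    field_simp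
  rw [c1', map_add, map_inv₀, map_one, div_eq_iff hm1] at c3
  have c4 : φ (K : F) * m = 1 := by
    have c5 : (φ (K : F))⁻¹ * m⁻¹ = 1 := by rw [hu] at c3; linear_combination -c3
    rw [← mul_inv] at c5
    exact inv_eq_one.mp c5
  let τ : F ≃+* F := φ.trans (frobeniusEquiv F 2)
  have hτ : ∀ x, τ x = φ x * φ x := fun x => by rw [← sq]; rfl
  have hτK : τ (K : F) = (K : F)⁻¹ := by
    rw [hτ]
    refine (inv_eq_of_mul_eq_one_right ?_).symm
    rw [← c4, hm, nrm]; ring
  have hfix := fixed_of_sq τ H (x := (K : F)) (by rw [hτK, map_inv₀, hτK, inv_inv])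
  rw [hτK] at hfix
  have hfix' : (K : F) * K = 1 := by
    nth_rewrite 2 [← hfix]
    exact mul_inv_cancel₀ hK
  exact hK1 (Units.ext (CharTwo.sq_injective (show (K : F) ^ 2 = (1 : F) ^ 2 by rw [one_pow, sq, hfix'])))

theorem main_equation (H : OddField F) (hB : C.Base 0 1) {b : F} (hb0 : b ≠ 0) (hb1 : b ≠ 1) :
    (b + φ (φ b) * φ (φ b)) * (1 + b * φ.symm b + φ b) + b * φ (φ b) * (φ.symm b + φ b * φ b) = 0 := by
  have h2 : (2 : F) = 0 := CharTwo.two_eq_zero
  have hb' : 1 + b ≠ 0 := fun h => hb1 (by linear_combination h - h2)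
  set p := φ.symm b with hp
  set P := φ b with hP
  set Q := φ P with hQ
  have hφp : φ p = b := φ.apply_symm_apply b
  have hP0 : P ≠ 0 := (map_ne_zero φ).mpr hb0
  have hP' : 1 + P ≠ 0 := fun h => hb1 (φ.injective (by
    rw [map_one]; show P = 1; linear_combination h - h2))
  have hp0 : p ≠ 0 := fun h => hb0 (by rw [← hφp, h, map_zero])
  set m := b * P with hm
  have hm0 : m ≠ 0 := mul_ne_zero hb0 hP0
  have hm1 : 1 + m ≠ 0 := fun h => hb1 (norm_injective (φ := φ) H (x := b) (y := 1) (by
    rw [map_one, mul_one]; show m = 1; linear_combination h - h2))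
  -- the left hand side
  have huL0 : 1 + m⁻¹ ≠ 0 := fun h => hm1 (by
    have : m * (1 + m⁻¹) = 0 := by rw [h, mul_zero]
    rw [mul_add, mul_inv_cancel₀ hm0, mul_one] at this
    linear_combination this)
  obtain ⟨vL, hvL0, -, hrelL, eL⟩ := par H hB huL0 (fun h => inv_ne_zero hm0 (by linear_combination h))
  set uL := 1 + m⁻¹ with huL
  simp only [lin, zero_add, one_mul, zero_mul, add_zero, Units.val_one] at eL
  -- the right hand side
  set uR := (1 + b + m) / ((1 + b) * (1 + P)) with huR
  have huR1 : uR ≠ 1 := fun h => hP0 (by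
    rw [huR, div_eq_one_iff_eq (mul_ne_zero hb' hP'), hm] at h
    linear_combination h + P * h2)
  have hinR : dP φ ((Units.mk0 (1 + b) hb' : Fˣ) : F) (1, uR) = (1 + b, (0 + 1) * (1 + nrm φ b) + b) := by
    refine Prod.ext (by simp [dP]) ?_
    simp only [dP, nrm, huR, hm, Units.val_mk0, map_add, map_one, ← hP]
    field_simp
    ring
  have hinL : ((((1 : Fˣ) : F), (0 + 1) * nrm φ ((1 : Fˣ) : F) + (nrm φ b)⁻¹) : F × F) = (1, uL) := by
    simp only [Units.val_one, huL, hm, nrm, ← hP, zero_add, map_one, mul_one]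
  by_cases hbad : 1 + b + m = 0
  · have huR0 : uR = 0 := by rw [huR, hbad, zero_div]
    have e₀ : C.Img (1, uR) (0, 1) := by rw [huR0]; exact (Eq3.img hB).swap
    have e₁ := e₀.smul (Units.mk0 (1 + b) hb')
    rw [hinR] at e₁
    have e₂ := shift hB (Units.mk0 b hb0) e₁
    rw [Units.val_mk0, hinL] at e₂
    have hc := eL.unique e₂
    simp only [mulP, dP, nrm, Units.val_inv_eq_inv_val, Units.val_mul, Units.val_one, Units.val_mk0, map_mul,
      map_inv₀, map_div₀, map_one, map_add, Prod.mk.injEq, mul_zero, zero_mul, zero_add, add_zero, map_zero,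
      ← hP, inv_one, mul_one] at hc
    obtain ⟨c1, c2⟩ := hc
    have hv : vL = (uL * b)⁻¹ := by
      rw [← c1]
      field_simp
    rw [hv] at c2
    have hφu : φ uL ≠ 0 := (map_ne_zero φ).mpr huL0
    have c3 : (1 + b) * (1 + P) = b * (1 + m) := by
      simp only [map_inv₀, map_mul, ← hP] at c2
      have k1 : 1 / (uL * (uL * b)⁻¹) = b := by field_simp
      have k2 : 1 / (φ uL * (φ uL * P)⁻¹) = P := by field_simp
      rw [k1, k2] at c2
      have k3 : uL * m = m + 1 := by rw [huL]; field_simp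
      field_simp at c2
      rw [hm] at k3 ⊢
      linear_combination c2 + b * k3
    have hcub : b * b * b = 1 + b := by
      have hbad' : b * P = 1 + b := by rw [← hm]; linear_combination hbad - (1 + b) * h2
      have h9 : (1 + b) * (1 + P) * b = 1 + b := by linear_combination (1 + b) * hbad' + (1 + b) * b * h2
      have h10 : b * (1 + m) = b * b := by rw [hm, hbad']; linear_combination b * h2
      rw [c3, h10] at h9
      exact h9
    have hPb : P = b * b := by
      have hbad' : b * P = 1 + b := by rw [← hm]; linear_combination hbad - (1 + b) * h2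
      exact mul_left_cancel₀ hb0 (by linear_combination hbad' - hcub)
    have hQQ : Q * Q = b := by
      rw [hQ, hPb, map_mul, ← hP, hPb]
      linear_combination (b ^ 5 + b ^ 3 + b ^ 2 + b) * hcub + (b ^ 2 + b ^ 3) * h2
    have hpP : p = P * P := φ.injective (by rw [hφp, map_mul, ← hQ, hQQ])
    rw [hQQ, hpP]
    linear_combination (b * (1 + b * (P * P) + P) + b * Q * (P * P)) * h2
  · have huR0 : uR ≠ 0 := div_ne_zero hbad (mul_ne_zero hb' hP')
    obtain ⟨v, hv0, -, -, eR⟩ := par H hB huR0 huR1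
    simp only [lin, zero_add, one_mul, zero_mul, add_zero, Units.val_one] at eR
    have e₁ := eR.smul (Units.mk0 (1 + b) hb')
    rw [hinR] at e₁
    have e₂ := shift hB (Units.mk0 b hb0) e₁
    rw [Units.val_mk0, hinL] at e₂
    have hc := eL.unique e₂
    simp only [mulP, dP, nrm, Units.val_inv_eq_inv_val, Units.val_mul, Units.val_one, Units.val_mk0, map_mul,
      map_inv₀, map_div₀, map_one, map_add, Prod.mk.injEq, zero_mul, add_zero, ← hP, inv_one, mul_one] at hc
    obtain ⟨c1, c2⟩ := hc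
    set X₁ := b * b * ((1 + b)⁻¹ * (1 / (uR * v))) with hX₁
    set XL := 1 / (uL * vL) with hXL
    have c1' : XL = X₁ + b := c1
    have hφb' : φ (1 + b) = 1 + P := by rw [map_add, map_one]
    have hφX₁ : φ X₁ = P * P * ((1 + P)⁻¹ * (1 / (φ uR * φ v))) := by
      simp only [hX₁, map_mul, map_inv₀, map_div₀, map_one, map_add, ← hP]
    have hφXL : φ XL = 1 / (φ uL * φ vL) := by simp only [hXL, map_mul, map_div₀, map_one]
    have c2' : XL * φ XL * vL = φ X₁ * (X₁ * v + b) := by
      rw [hφXL, hφX₁, hXL]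
      linear_combination c2
    have hXLv : XL * vL = m / (1 + m) := by
      have k1 : XL * vL = uL⁻¹ := by rw [hXL]; field_simp
      have k0 : uL = (1 + m) / m := by rw [huL]; field_simp; ring
      rw [k1, k0, inv_div]
    have hX₁v : X₁ * v + b = b / (1 + b + m) := by
      rw [hX₁, huR]
      field_simp
      rw [hm]
      grind
    have c3 : φ X₁ * (m + m * m + b) = P * m * (1 + b + m) := by
      have h3 : φ XL * (XL * vL) = φ X₁ * (X₁ * v + b) := by linear_combination c2'
      rw [hXLv, hX₁v, c1', map_add, ← hP] at h3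
      field_simp at h3
      exact aux_c3 h3
    have hX : X₁ * (1 + b + p * b * b) = b * b * (1 + p + p * b) := by
      have h4 := congrArg φ.symm c3
      simp only [hm, map_mul, map_add, map_one, hP, RingEquiv.symm_apply_apply, ← hp] at h4
      refine mul_left_cancel₀ hp0 ?_
      linear_combination h4
    have hXLb : XL * (1 + b + p * b * b) = b * (1 + b * p) := by
      rw [c1']
      exact aux_shift hX
    -- the point on the left
    set d := 1 + vL⁻¹ with hd
    have hvLinv : vL⁻¹ = XL * uL := by rw [hXL]; field_simp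
    have hdP : d * P * (1 + b + p * b * b) = 1 + b * p + P := by
      rw [hd, hvLinv, huL, hm]
      field_simp
      linear_combination (1 + b * P) * hXLb + (b * b * P + b * b * p * b * P) * h2
    have hNa : (1 + uL⁻¹) * (1 + m) = 1 := by
      have k0 : uL = (1 + m) / m := by rw [huL]; field_simp; ring
      rw [k0, inv_div, add_mul, one_mul, div_mul_cancel₀ _ hm1]
      linear_combination m * h2
    have hNd : nrm φ d * (P * (b + Q + b * P * Q)) = 1 := by
      have ha := hNa
      have hφa : φ (1 + uL⁻¹) * (1 + P * Q) = 1 := by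
        have := congrArg φ ha
        rw [map_mul, map_one, map_add _ _ m, map_one, hm, map_mul, ← hP, ← hQ] at this
        exact this
      simp only [nrm] at hrelL
      simp only [nrm]
      have e5 : (1 + m) * (1 + P * Q) + 1 = P * (b + Q + b * P * Q) := by
        rw [hm]
        linear_combination h2
      rw [← e5]
      linear_combination ((1 + m) * (1 + P * Q)) * hrelL + (φ (1 + uL⁻¹) * (1 + P * Q) * (1 - d * φ d)) * ha +
        (1 - d * φ d) * hφa
    have hφd : φ d * Q * (1 + P + b * P * P) = 1 + P * b + Q := by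
      have := congrArg φ hdP
      simp only [map_mul, map_add, map_one, hφp, ← hP, ← hQ] at this
      linear_combination this
    have hmain : (1 + b * p + P) * (1 + P * b + Q) * (P * (b + Q + b * P * Q)) =
        P * (1 + b + p * b * b) * (Q * (1 + P + b * P * P)) := by
      rw [← hdP, ← hφd]
      simp only [nrm] at hNd
      linear_combination (P * (1 + b + p * b * b) * (Q * (1 + P + b * P * P))) * hNd
    have hmain' : (1 + b * p + P) * (1 + P * b + Q) * (b + Q + b * P * Q) =
        (1 + b + p * b * b) * (Q * (1 + P + b * P * P)) :=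
      mul_left_cancel₀ hP0 (by linear_combination hmain)
    have hfac : (1 + m) * ((b + Q * Q) * (1 + b * p + P) + b * Q * (p + P * P)) = 0 := by
      rw [hm]
      have e6 : (1 + b * P) * ((b + Q * Q) * (1 + b * p + P) + b * Q * (p + P * P)) +
          ((1 + b * p + P) * (1 + P * b + Q) * (b + Q + b * P * Q) +
            (1 + b + p * b * b) * (Q * (1 + P + b * P * P))) = 0 := aux_factor b p P Q
      linear_combination e6 - hmain' - ((1 + b + p * b * b) * (Q * (1 + P + b * P * P))) * h2
    exact (mul_eq_zero.mp hfac).resolve_left hm1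

theorem twist (H : OddField F) (hB : C.Base 0 1) (b : F) : φ (φ b) * φ (φ b) = b := by
  have h2 : (2 : F) = 0 := CharTwo.two_eq_zero
  by_cases hb0 : b = 0
  · simp [hb0]
  by_cases hb1 : b = 1
  · simp [hb1]
  have e₁ := main_equation H hB hb0 hb1
  have e₂ := main_equation H hB (inv_ne_zero hb0) (fun h => hb1 (inv_eq_one.mp h))
  simp only [map_inv₀] at e₂
  set p := φ.symm b with hp
  set P := φ b with hP
  set Q := φ P with hQ
  have hφp : φ p = b := φ.apply_symm_apply b
  have hp0 : p ≠ 0 := fun h => hb0 (by rw [← hφp, h, map_zero])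
  have hP0 : P ≠ 0 := (map_ne_zero φ).mpr hb0
  have hQ0 : Q ≠ 0 := (map_ne_zero φ).mpr hP0
  field_simp at e₂
  have hkey : (b + Q * Q) * ((1 + b * p) * (1 + P + P * P)) = 0 := by
    linear_combination e₁ + e₂ - (b * Q * (p + P * P)) * h2
  have h1 : 1 + b * p ≠ 0 := fun h => hb1 (by
    have hbp : b * p = 1 := by linear_combination h - h2
    have h3 := congrArg φ hbp
    rw [map_mul, hφp, map_one, ← hP] at h3
    exact norm_injective (φ := φ) H (x := b) (y := 1) (by rw [map_one, mul_one, ← hP]; linear_combination h3))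
  have h3 : 1 + P + P * P ≠ 0 := fun h => no_omega H P (by linear_combination h)
  have h4 := (mul_eq_zero.mp hkey).resolve_right (mul_ne_zero h1 h3)
  linear_combination h4 - b * h2

end Coord

end CfsgLib.SuzukiUnique
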