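import Mathlib
import Cfsg.Agent.Lib.OneSeen.Field

/-!
Automorphisms of fields with an odd power of two elements.
-/

set_option autoImplicit false
set_option linter.style.haveILetI false

namespace CfsgLib.SuzukiUnique

variable {F : Type*} [Field F] [Finite F] [CharP F 2]

/-- The number of elements is an odd power of two. -/
def OddField (F : Type*) : Prop := ∃ n : ℕ, Odd n ∧ Nat.card F = 2 ^ n

theorem exists_iterate (φ : F ≃+* F) (H : OddField F) : ∃ n : ℕ, Odd n ∧ ∀ x : F, (⇑φ)^[n] x = x := by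
  obtain ⟨n, hn, hc⟩ := H
  haveI : Fact (Nat.Prime 2) := ⟨Nat.prime_two⟩
  obtain ⟨i, hi⟩ := OneSeen.frob_exists hc (φ : F →+* F)
  haveI := Fintype.ofFinite F
  have hit : ∀ k : ℕ, ∀ x : F, (⇑φ)^[k] x = x ^ 2 ^ (i * k) := by
    intro k
    induction k with
    | zero => intro x; simp
    | succ k ih =>
      intro x
      rw [Function.iterate_succ_apply', ih, show φ (x ^ 2 ^ (i * k)) = (φ : F →+* F) (x ^ 2 ^ (i * k)) from rfl, hi,
        ← pow_mul, ← pow_add, Nat.mul_succ]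
  refine ⟨n, hn, fun x => ?_⟩
  rw [hit, mul_comm i, pow_mul, ← hc, Nat.card_eq_fintype_card]
  exact FiniteField.pow_card_pow i x

theorem iterate_even {α : Type*} (f : α → α) (j : ℕ) : f^[2 * j] = (f ∘ f)^[j] := by
  rw [Function.iterate_mul]
  rfl

theorem fixed_of_sq (φ : F ≃+* F) (H : OddField F) {x : F} (hx : φ (φ x) = x) : φ x = x := by
  obtain ⟨n, ⟨j, rfl⟩, hn⟩ := exists_iterate φ H
  have := hn x
  rwa [show 2 * j + 1 = (2 * j).succ from rfl, Function.iterate_succ_apply', iterate_even,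
    Function.iterate_fixed (f := ⇑φ ∘ ⇑φ) (show (⇑φ ∘ ⇑φ) x = x from hx)] at this

/-- An automorphism is determined by its square. -/
theorem eq_of_sq_eq (φ ψ : F ≃+* F) (H : OddField F) (h : ∀ x, φ (φ x) = ψ (ψ x)) : φ = ψ := by
  obtain ⟨n, ⟨j, rfl⟩, hn⟩ := exists_iterate φ H
  obtain ⟨k, ⟨i, rfl⟩, hk⟩ := exists_iterate ψ H
  have key : ∀ (σ : F → F) (a b : ℕ), (∀ x, σ^[2 * a + 1] x = x) → ∀ x, σ^[(2 * a + 1) * b] x = x := by
    intro σ a b hσ x
    rw [Function.iterate_mul]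
    exact Function.iterate_fixed (hσ x) b
  refine RingEquiv.ext fun x => ?_
  have e1 : (⇑φ)^[(2 * j + 1) * (2 * i + 1) + 1] x = φ x := by
    exact (Function.iterate_succ_apply' _ _ _).trans (congrArg φ (key _ j _ hn x))
  have e2 : (⇑ψ)^[(2 * j + 1) * (2 * i + 1) + 1] x = ψ x := by
    rw [mul_comm]
    exact (Function.iterate_succ_apply' _ _ _).trans (congrArg ψ (key _ i _ hk x))
  rw [← e1, ← e2, show (2 * j + 1) * (2 * i + 1) + 1 = 2 * (2 * j * i + j + i + 1) by ring, iterate_even,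
    iterate_even, show (⇑φ ∘ ⇑φ) = (⇑ψ ∘ ⇑ψ) from funext h]

theorem no_omega (H : OddField F) (x : F) : x * x + x + 1 ≠ 0 := by
  intro hx
  have h2 : (2 : F) = 0 := CharTwo.two_eq_zero
  let φ := frobeniusEquiv F 2
  have hφ : ∀ y : F, φ y = y * y := fun y => by rw [← sq]; rfl
  have h4 : φ (φ x) = x := by
    rw [hφ, hφ]
    linear_combination (x * x - x) * hx
  have hxx := fixed_of_sq φ H h4
  rw [hφ] at hxx
  refine one_ne_zero (α := F) ?_
  linear_combination hx - hxx - x * h2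

end CfsgLib.SuzukiUnique
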