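import Cfsg.Agent.Lib.SuzukiUnique.Determine

/-!
Two groups with coordinates over the same field are isomorphic.
-/

set_option autoImplicit false
set_option linter.unusedSectionVars false
set_option maxHeartbeats 1000000

namespace CfsgLib.SuzukiUnique

variable {F : Type*} [Field F] [Finite F] [CharP F 2]
variable {G G' : Type*} [Group G] [Group G']

namespace Coord

variable {φ : F ≃+* F} {C : Coord G F φ} {C' : Coord G' F φ}

theorem exists_normal (C : Coord G F φ) (H : OddField F) (h3 : ∀ g : G, g ^ 3 = 1 → g = 1) :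
    ∃ (ψ : F ≃+* F) (C' : Coord G F ψ), C'.Base 0 1 ∧ ∀ b, ψ (ψ b) * ψ (ψ b) = b := by
  obtain ⟨C₁, c, K, hB⟩ := C.exists_base H h3
  obtain ⟨ψ, C₂, K₂, hB₂⟩ : ∃ (ψ : F ≃+* F) (C₂ : Coord G F ψ) (K₂ : Fˣ), C₂.Base 0 K₂ := by
    rcases zero_or_one H hB with rfl | rfl
    · exact ⟨φ, C₁, K, hB⟩
    · exact ⟨φ.symm, C₁.flip, _, flip_base hB⟩
  obtain rfl := unit_one H hB₂
  exact ⟨ψ, C₂, hB₂, twist H hB₂⟩

theorem img_ne_zero {X g : F × F} (e : C.Img X g) : g ≠ 0 := by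
  rintro rfl
  obtain ⟨f, h, e⟩ := e.swap
  unfold Eq3 at e
  rw [C.p_zero, mul_one, C.w_sq] at e
  have h1 : C.p X = (C.p f * C.e h * C.w)⁻¹ := eq_inv_of_mul_eq_one_right e.symm
  rw [mul_inv_rev, mul_inv_rev, C.w_inv, C.p_inv, ← map_inv] at h1
  have h2 : C.p X * (C.p (invP φ f))⁻¹ * (C.e h⁻¹)⁻¹ = C.w := by rw [h1]; group
  rw [C.p_inv, C.p_mul, ← map_inv, inv_inv] at h2
  exact C.out _ _ h2

/-- The last coordinates agree in any two normalised groups. -/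
theorem img_transfer (H : OddField F) (hB : C.Base 0 1) (hB' : C'.Base 0 1) {X g : F × F} (hX : X ≠ 0)
    (e : C.Img X g) : C'.Img X g := by
  suffices h : ∃ g₀, C.Img X g₀ ∧ C'.Img X g₀ by
    obtain ⟨g₀, e₁, e₂⟩ := h
    rwa [e.unique e₁]
  by_cases hx : X.1 = 0
  · have hy : X.2 ≠ 0 := fun hy => hX (Prod.ext hx hy)
    obtain ⟨a, ha⟩ := exists_norm H φ X.2⁻¹
    have ha0 : a ≠ 0 := fun h => inv_ne_zero hy (by rw [← ha, h, zero_mul])
    have eX : X = (0, (nrm φ ((Units.mk0 a ha0 : Fˣ) : F))⁻¹) :=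
      Prod.ext hx (by simp [nrm, Units.val_mk0, ha])
    refine ⟨_, eX ▸ (central hB (Units.mk0 a ha0)).img, ?_⟩
    · rw [eX]; exact (central hB' (Units.mk0 a ha0)).img
  · set u := X.2 / nrm φ X.1 with hu
    have eX : dP φ ((Units.mk0 X.1 hx : Fˣ) : F) (1, u) = X := by
      refine Prod.ext (by simp [dP]) ?_
      simp only [dP, Units.val_mk0, hu, nrm]
      field_simp [(map_ne_zero φ).mpr hx]
    suffices h : ∃ g₀, C.Img (1, u) g₀ ∧ C'.Img (1, u) g₀ by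
      obtain ⟨g₀, e₁, e₂⟩ := h
      refine ⟨dP φ (((Units.mk0 X.1 hx)⁻¹ : Fˣ) : F) g₀, ?_, ?_⟩
      · conv => arg 2; rw [← eX]
        exact e₁.smul _
      · conv => arg 2; rw [← eX]
        exact e₂.smul _
    by_cases hu0 : u = 0
    · exact ⟨_, hu0 ▸ (Eq3.img hB).swap, hu0 ▸ (Eq3.img hB').swap⟩
    by_cases hu1 : u = 1
    · refine ⟨dP φ ((1 : Fˣ) : F) (1, 0 + 1), ?_, ?_⟩
      · have := (one_inv hB).img
        rwa [zero_add, ← hu1] at this ⊢
      · have := (one_inv hB').img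
        rwa [zero_add, ← hu1] at this ⊢
    obtain ⟨v, hv0, -, hrel, e₁⟩ := par H hB hu0 hu1
    obtain ⟨v', hv0', -, hrel', e₂⟩ := par H hB' hu0 hu1
    have hN : 1 + nrm φ (1 + u⁻¹) ≠ 0 := fun h => inv_ne_zero hu0 (by
      have := norm_injective (φ := φ) H (x := 1 + u⁻¹) (y := 1) (by
        rw [map_one, mul_one]
        show nrm φ (1 + u⁻¹) = 1
        linear_combination h - (CharTwo.two_eq_zero : (2 : F) = 0))
      linear_combination this)
    have hvv : v = v' := inv_injective (add_left_cancel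
      (norm_injective (φ := φ) H (mul_right_cancel₀ hN (hrel.trans hrel'.symm))))
    subst hvv
    simp only [lin, zero_add, one_mul, zero_mul, add_zero] at e₁ e₂
    exact ⟨_, e₁, e₂⟩

theorem eq3_transfer (H : OddField F) (hB : C.Base 0 1) (hB' : C'.Base 0 1) {X f g : F × F} {h : Fˣ}
    (hX : X ≠ 0) (e : C.Eq3 X f h g) : C'.Eq3 X f h g := by
  obtain ⟨f', h', e'⟩ := img_transfer H hB hB' hX e.img
  have hinv : ∀ Z : F × F, Z ≠ 0 → invP φ Z ≠ 0 := fun Z hZ h0 => hZ (by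
    have h1 : Z.1 = 0 := congrArg Prod.fst h0
    have h2 : Z.2 + φ Z.1 * Z.1 = 0 := congrArg Prod.snd h0
    rw [h1, mul_zero, add_zero] at h2
    exact Prod.ext h1 h2)
  have hinvinj : Function.Injective (invP φ) := fun Z W h0 => by
    obtain ⟨h1, h2⟩ := Prod.mk.injEq .. |>.mp h0
    rw [h1] at h2
    exact Prod.ext h1 (add_right_cancel h2)
  have hff : f = f' := by
    have e₁ := img_transfer H hB hB' (hinv X hX) e.inv.img
    exact hinvinj (e₁.unique e'.inv.img)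
  subst hff
  have hf : invP φ f ≠ 0 := img_ne_zero e.inv.img
  have e₂ := img_transfer H hB hB' (hinv g (img_ne_zero e.img)) e.swap.inv.img
  have e₃ := e₂.unique e'.swap.inv.img
  have hh : h = h' := inv_injective (Units.ext (dP_inj H (Units.ne_zero _) (Units.ne_zero _) hf (hinvinj e₃)))
  subst hh
  exact e'

theorem w_mul_pe (D : Coord G F φ) (x : F × F) (l : Fˣ) :
    D.w * (D.p x * D.e l) = D.p 0 * D.e l⁻¹ * D.w * D.p (dP φ ((l⁻¹ : Fˣ) : F) x) := by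
  rw [D.p_zero, one_mul, D.p_e, ← mul_assoc, D.w_e']

theorem w_mul_zero (D : Coord G F φ) (l : Fˣ) (y : F × F) :
    D.w * (D.p 0 * D.e l * D.w * D.p y) = D.p (dP φ ((l⁻¹ : Fˣ) : F) y) * D.e l⁻¹ := by
  rw [D.p_zero, one_mul, ← mul_assoc, ← mul_assoc, D.w_e', mul_assoc _ D.w D.w, D.w_sq, mul_one, D.e_p]

theorem w_mul_big {D : Coord G F φ} {x f g : F × F} {h : Fˣ} (hD : D.Eq3 x f h g) (l : Fˣ) (y : F × F) :
    D.w * (D.p x * D.e l * D.w * D.p y) = D.p f * D.e (h * l) * D.w * D.p (mulP φ (dP φ (l : F) g) y) := by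
  unfold Eq3 at hD
  calc D.w * (D.p x * D.e l * D.w * D.p y) = (D.w * D.p x) * (D.e l * D.w) * D.p y := by group
    _ = (D.w * D.p x * D.w) * D.e l⁻¹ * D.p y := by
      rw [show D.e l * D.w = D.w * D.e l⁻¹ by rw [D.w_e', inv_inv]]; group
    _ = D.p f * D.e h * D.w * (D.p g * D.e l⁻¹) * D.p y := by rw [hD]; group
    _ = D.p f * D.e h * (D.w * D.e l⁻¹) * (D.p (dP φ (l : F) g) * D.p y) := by
      rw [D.p_e l⁻¹ g, inv_inv]; group
    _ = _ := by rw [D.w_e', inv_inv, D.p_mul, map_mul]; group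

variable (C C') in
/-- Pairs of elements with the same normal form. -/
def Match (a : G × G') : Prop :=
  (∃ x l, a = (C.p x * C.e l, C'.p x * C'.e l)) ∨
    ∃ x l y, a = (C.p x * C.e l * C.w * C.p y, C'.p x * C'.e l * C'.w * C'.p y)

theorem match_mul_p {a : G × G'} (h : Match C C' a) (z : F × F) : Match C C' ((C.p z, C'.p z) * a) := by
  rcases h with ⟨x, l, rfl⟩ | ⟨x, l, y, rfl⟩
  · exact Or.inl ⟨mulP φ z x, l, by simp only [Prod.mk_mul_mk, ← mul_assoc, C.p_mul, C'.p_mul]⟩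
  · exact Or.inr ⟨mulP φ z x, l, y, by simp only [Prod.mk_mul_mk, ← mul_assoc, C.p_mul, C'.p_mul]⟩

theorem match_mul_e {a : G × G'} (h : Match C C' a) (k : Fˣ) : Match C C' ((C.e k, C'.e k) * a) := by
  rcases h with ⟨x, l, rfl⟩ | ⟨x, l, y, rfl⟩
  · exact Or.inl ⟨dP φ (k : F) x, k * l, by
      simp only [Prod.mk_mul_mk, ← mul_assoc, C.e_p, C'.e_p, map_mul]⟩
  · exact Or.inr ⟨dP φ (k : F) x, k * l, y, by
      simp only [Prod.mk_mul_mk, ← mul_assoc, C.e_p, C'.e_p, map_mul]⟩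

theorem match_mul_w (H : OddField F) (hB : C.Base 0 1) (hB' : C'.Base 0 1) {a : G × G'} (h : Match C C' a) :
    Match C C' ((C.w, C'.w) * a) := by
  rcases h with ⟨x, l, rfl⟩ | ⟨x, l, y, rfl⟩
  · refine Or.inr ⟨0, l⁻¹, dP φ ((l⁻¹ : Fˣ) : F) x, ?_⟩
    exact Prod.ext (C.w_mul_pe x l) (C'.w_mul_pe x l)
  · by_cases hx : x = 0
    · subst hx
      refine Or.inl ⟨dP φ ((l⁻¹ : Fˣ) : F) y, l⁻¹, ?_⟩
      exact Prod.ext (C.w_mul_zero l y) (C'.w_mul_zero l y)
    · obtain ⟨f, h, g, e⟩ := C.exists_eq3 hx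
      have e' := eq3_transfer H hB hB' hx e
      refine Or.inr ⟨f, h * l, mulP φ (dP φ (l : F) g) y, ?_⟩
      exact Prod.ext (w_mul_big e l y) (w_mul_big e' l y)

theorem match_left {a : G × G'} (h : Match C C' a) (ha : a.1 = 1) : a.2 = 1 := by
  rcases h with ⟨x, l, rfl⟩ | ⟨x, l, y, rfl⟩
  · have h1 : C.p x * C.e l = C.p 0 * C.e 1 := by rw [C.p_zero, map_one, one_mul]; exact ha
    obtain ⟨rfl, rfl⟩ := C.pe_injective h1
    simp [C'.p_zero]
  · exfalso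
    have ha' : C.p x * C.e l * C.w * C.p y = 1 := ha
    have h1 : C.w = (C.e l)⁻¹ * (C.p x)⁻¹ * (C.p y)⁻¹ := by
      have : C.w = (C.e l)⁻¹ * (C.p x)⁻¹ * (C.p x * C.e l * C.w * C.p y) * (C.p y)⁻¹ := by group
      rw [ha', mul_one] at this
      exact this
    rw [C.p_inv, C.p_inv, mul_assoc, C.p_mul, ← map_inv, C.e_p] at h1
    exact C.out _ _ h1.symm

variable (C) in
theorem closure_eq_top : Subgroup.closure (Set.range C.p ∪ Set.range C.e ∪ {C.w}) = ⊤ := by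
  rw [eq_top_iff]
  intro g _
  set S := Subgroup.closure (Set.range C.p ∪ Set.range C.e ∪ {C.w})
  have hp : ∀ x, C.p x ∈ S := fun x => Subgroup.subset_closure (Or.inl (Or.inl ⟨x, rfl⟩))
  have he : ∀ l, C.e l ∈ S := fun l => Subgroup.subset_closure (Or.inl (Or.inr ⟨l, rfl⟩))
  have hw : C.w ∈ S := Subgroup.subset_closure (Or.inr rfl)
  rcases C.cover g with ⟨a, l, rfl⟩ | ⟨a, l, b, rfl⟩
  · exact mul_mem (hp a) (he l)
  · exact mul_mem (mul_mem (mul_mem (hp a) (he l)) hw) (hp b)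

theorem nonempty_mulEquiv (H : OddField F) (hB : C.Base 0 1) (hB' : C'.Base 0 1) : Nonempty (G ≃* G') := by
  let s : Set (G × G') := Set.range (fun z => (C.p z, C'.p z)) ∪ Set.range (fun k => (C.e k, C'.e k)) ∪ {(C.w, C'.w)}
  let Γ := Subgroup.closure s
  have hstep : ∀ x ∈ s, ∀ a, Match C C' a → Match C C' (x * a) ∧ Match C C' (x⁻¹ * a) := by
    rintro x ((⟨z, rfl⟩ | ⟨k, rfl⟩) | rfl) a ha
    · refine ⟨match_mul_p ha z, ?_⟩
      rw [Prod.inv_mk, C.p_inv, C'.p_inv]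
      exact match_mul_p ha _
    · refine ⟨match_mul_e ha k, ?_⟩
      rw [Prod.inv_mk, ← map_inv, ← map_inv]
      exact match_mul_e ha _
    · refine ⟨match_mul_w H hB hB' ha, ?_⟩
      rw [Prod.inv_mk, C.w_inv, C'.w_inv]
      exact match_mul_w H hB hB' ha
  have hmatch : ∀ a ∈ Γ, Match C C' a := by
    intro a ha
    refine Subgroup.closure_induction_left (p := fun a _ => Match C C' a) ?_ (fun x hx a _ h => (hstep x hx a h).1)
      (fun x hx a _ h => (hstep x hx a h).2) ha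
    exact Or.inl ⟨0, 1, by simp [C.p_zero, C'.p_zero, Prod.one_eq_mk]⟩
  have hmatch' : ∀ a ∈ Γ, a.2 = 1 → a.1 = 1 := fun a ha h2 => by
    have hm : Match C' C (a.2, a.1) := by
      rcases hmatch a ha with ⟨x, l, rfl⟩ | ⟨x, l, y, rfl⟩
      · exact Or.inl ⟨x, l, rfl⟩
      · exact Or.inr ⟨x, l, y, rfl⟩
    exact match_left hm h2
  let π : Γ →* G := (MonoidHom.fst G G').comp Γ.subtype
  let π' : Γ →* G' := (MonoidHom.snd G G').comp Γ.subtype
  have hb : Function.Bijective π := by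
    refine ⟨(injective_iff_map_eq_one π).mpr fun a ha => Subtype.ext (Prod.ext ha (match_left (hmatch _ a.2) ha)), ?_⟩
    rw [← MonoidHom.range_eq_top, eq_top_iff, ← closure_eq_top C, Subgroup.closure_le]
    rintro g ((⟨z, rfl⟩ | ⟨k, rfl⟩) | rfl)
    · exact ⟨⟨_, Subgroup.subset_closure (Or.inl (Or.inl ⟨z, rfl⟩))⟩, rfl⟩
    · exact ⟨⟨_, Subgroup.subset_closure (Or.inl (Or.inr ⟨k, rfl⟩))⟩, rfl⟩
    · exact ⟨⟨_, Subgroup.subset_closure (Or.inr rfl)⟩, rfl⟩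
  have hb' : Function.Bijective π' := by
    refine ⟨(injective_iff_map_eq_one π').mpr fun a ha => Subtype.ext (Prod.ext (hmatch' _ a.2 ha) ha), ?_⟩
    rw [← MonoidHom.range_eq_top, eq_top_iff, ← closure_eq_top C', Subgroup.closure_le]
    rintro g ((⟨z, rfl⟩ | ⟨k, rfl⟩) | rfl)
    · exact ⟨⟨_, Subgroup.subset_closure (Or.inl (Or.inl ⟨z, rfl⟩))⟩, rfl⟩
    · exact ⟨⟨_, Subgroup.subset_closure (Or.inl (Or.inr ⟨k, rfl⟩))⟩, rfl⟩
    · exact ⟨⟨_, Subgroup.subset_closure (Or.inr rfl)⟩, rfl⟩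
  exact ⟨(MulEquiv.ofBijective π hb).symm.trans (MulEquiv.ofBijective π' hb')⟩

end Coord

/-- Groups with coordinates over the same field and no element of order three are isomorphic. -/
theorem unique (H : OddField F) {φ φ' : F ≃+* F} (C : Coord G F φ) (C' : Coord G' F φ')
    (h : ∀ g : G, g ^ 3 = 1 → g = 1) (h' : ∀ g : G', g ^ 3 = 1 → g = 1) : Nonempty (G ≃* G') := by
  obtain ⟨ψ, D, hD, ht⟩ := C.exists_normal H h
  obtain ⟨ψ', D', hD', ht'⟩ := C'.exists_normal H h'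
  have he : ψ = ψ' := eq_of_sq_eq ψ ψ' H fun x => CharTwo.sq_injective (by
    show ψ (ψ x) ^ 2 = ψ' (ψ' x) ^ 2
    rw [sq, sq, ht, ht'])
  subst he
  exact Coord.nonempty_mulEquiv H hD hD'

end CfsgLib.SuzukiUnique
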