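import Cfsg.Agent.Lib.SuzukiUnique.Iso
import Cfsg.Agent.Lib.Suzuki.Structure

/-!
The Suzuki groups have coordinates.
-/

set_option autoImplicit false
set_option linter.style.haveILetI false
set_option linter.unusedSectionVars false

namespace CfsgLib.SuzukiUnique

open Cfsg CfsgLib.Suzuki

variable {F : Type*} [Field F] [Fintype F] {m : ℕ} (hF : Fintype.card F = 2 ^ (2 * m + 1))
include hF

/-- The field map as an automorphism. -/
noncomputable def thEquiv : F ≃+* F :=
  RingEquiv.ofBijective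
    ({ toFun := th m, map_one' := th_one, map_zero' := th_zero, map_mul' := th_mul, map_add' := th_add hF } : F →+* F)
    (th_bijective hF)

theorem thEquiv_apply (x : F) : thEquiv hF x = th m x := rfl

/-- The torus as a homomorphism with scaling parameter. -/
noncomputable def torus : Fˣ →* ↥(Cfsg.Sz F m) :=
  (MonoidHom.mk' (dS hF) (fun a b => (dS_mul hF a b).symm)).comp
    (Units.map ((thEquiv hF).symm : F →+* F).toMonoidHom)

theorem torus_apply (l : Fˣ) :
    torus hF l = dS hF (Units.map ((thEquiv hF).symm : F →+* F).toMonoidHom l) := rfl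

theorem w_torus (l : Fˣ) : wS hF * torus hF l = (torus hF l)⁻¹ * wS hF := by
  rw [torus_apply, dS_inv, ← wS_dS hF, mul_assoc _ (wS hF) (wS hF), wS_mul_self, mul_one]

/-- The coordinates of the Suzuki group. -/
noncomputable def szCoord (hm : 1 ≤ m) : Coord ↥(Cfsg.Sz F m) F (thEquiv hF) where
  p X := uS hF X.1 X.2
  p_mul X Y := uS_mul hF _ _ _ _
  e := torus hF
  e_conj l X := by
    rw [torus_apply, dS_uS]
    have e : th m ((thEquiv hF).symm (l : F)) = (l : F) := (thEquiv hF).apply_symm_apply _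
    have e2 : (thEquiv hF).symm (l : F) ^ 2 = th m (l : F) := by rw [← th_th hF, e]
    simp only [Units.coe_map, RingEquiv.toRingHom_eq_coe]
    show uS hF (th m ((thEquiv hF).symm (l : F)) * X.1)
      (th m ((thEquiv hF).symm (l : F)) * (thEquiv hF).symm (l : F) ^ 2 * X.2) = _
    rw [e, e2]
    rfl
  w := wS hF
  w_sq := wS_mul_self hF
  w_e l := w_torus hF l
  uniq a l b a' l' b' h := by
    have h1 := congrArg (fun g : ↥(Cfsg.Sz F m) => g • suzukiPointInfinity F) h
    simp only [mul_smul, torus_apply, smul_uS_inf, smul_wS_inf, smul_dS_zero, smul_uS_zero] at h1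
    obtain ⟨h11, h12⟩ := pt_injective h1
    have ha : a = a' := Prod.ext h11 h12
    subst ha
    have h2 : wS hF * (torus hF l⁻¹ * torus hF l') * wS hF = uS hF b.1 b.2 * (uS hF b'.1 b'.2)⁻¹ := by
      have h3 : torus hF l * wS hF * uS hF b.1 b.2 = torus hF l' * wS hF * uS hF b'.1 b'.2 := by
        simp only [mul_assoc] at h ⊢
        exact mul_left_cancel h
      have h4 : torus hF l' * wS hF = torus hF l * wS hF * uS hF b.1 b.2 * (uS hF b'.1 b'.2)⁻¹ := by
        rw [h3, mul_inv_cancel_right]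
      rw [map_inv, mul_assoc (wS hF), mul_assoc ((torus hF l)⁻¹), h4]
      calc wS hF * ((torus hF l)⁻¹ * (torus hF l * wS hF * uS hF b.1 b.2 * (uS hF b'.1 b'.2)⁻¹))
          = (wS hF * wS hF) * uS hF b.1 b.2 * (uS hF b'.1 b'.2)⁻¹ := by group
        _ = _ := by rw [wS_mul_self, one_mul]
    rw [← map_mul, torus_apply, wS_dS, uS_inv, uS_mul] at h2
    have h5 : uS hF (0 : F) 0 * dS hF (Units.map ((thEquiv hF).symm : F →+* F).toMonoidHom (l⁻¹ * l'))⁻¹ =
        uS hF (b.1 + b'.1) (b.2 + (b'.2 + th m b'.1 * b'.1) + th m b.1 * b'.1) * dS hF 1 := by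
      rw [uS_zero, one_mul, dS_one, mul_one]
      exact h2
    obtain ⟨e1, e2, e3⟩ := form_injective hF h5
    haveI := charTwo hF
    have hb1 : b.1 = b'.1 := CharTwo.add_eq_zero.mp e1.symm
    have hl : l⁻¹ * l' = 1 := by
      rw [inv_eq_one] at e3
      refine Units.map_injective (f := ((thEquiv hF).symm : F →+* F).toMonoidHom) (thEquiv hF).symm.injective ?_
      rw [e3, map_one]
    refine ⟨rfl, inv_mul_eq_one.mp hl, Prod.ext hb1 (CharTwo.add_eq_zero.mp ?_)⟩
    rw [hb1] at e2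
    linear_combination -e2 - (th m b'.1 * b'.1) * (CharTwo.two_eq_zero : (2 : F) = 0)
  out a l h := by
    have h1 := congrArg (fun g : ↥(Cfsg.Sz F m) => g • suzukiPointInfinity F) h
    simp only [mul_smul, torus_apply, smul_dS_inf, smul_uS_inf, smul_wS_inf] at h1
    rw [← pt_zero (m := m)] at h1
    exact pt_ne_inf _ _ h1.symm
  cover g := by
    have hd : ∀ t : Fˣ, dS hF t = torus hF (Units.map (thEquiv hF : F →+* F).toMonoidHom t) := fun t => by
      rw [torus_apply]
      exact congrArg (dS hF) (Units.ext (by simp))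
    by_cases hg : g • suzukiPointInfinity F = suzukiPointInfinity F
    · obtain ⟨a, b, t, ht⟩ := exists_uEl_dEl hF hm g.2 hg
      exact Or.inl ⟨(a, b), Units.map (thEquiv hF : F →+* F).toMonoidHom t, by rw [← hd]; exact Subtype.ext ht⟩
    · obtain ⟨a, b, c, d, t, ht⟩ := exists_bruhat hF hm g.2 hg
      have h1 : g = uS hF a b * wS hF * (uS hF c d * dS hF t) := Subtype.ext ht
      have h2 : uS hF c d * dS hF t = dS hF t * uS hF (th m ((t⁻¹ : Fˣ) : F) * c)
          (th m ((t⁻¹ : Fˣ) : F) * ((t⁻¹ : Fˣ) : F) ^ 2 * d) := by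
        rw [← dS_uS, dS_inv, inv_inv, ← mul_assoc, ← mul_assoc, dS_mul, mul_inv_cancel, dS_one, one_mul]
      refine Or.inr ⟨(a, b), Units.map (thEquiv hF : F →+* F).toMonoidHom t⁻¹,
        (th m ((t⁻¹ : Fˣ) : F) * c, th m ((t⁻¹ : Fˣ) : F) * ((t⁻¹ : Fˣ) : F) ^ 2 * d), ?_⟩
      rw [h1, h2, ← hd, ← dS_inv]
      have h3 : wS hF * dS hF t = (dS hF t)⁻¹ * wS hF := by
        rw [dS_inv, ← wS_dS hF, mul_assoc _ (wS hF) (wS hF), wS_mul_self, mul_one]
      rw [mul_assoc (uS hF a b) (wS hF), ← mul_assoc (wS hF), h3]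
      simp only [mul_assoc]

omit hF in
theorem not_three_dvd (m : ℕ) :
    ¬ 3 ∣ (2 ^ (2 * m + 1)) ^ 2 * ((2 ^ (2 * m + 1)) ^ 2 + 1) * (2 ^ (2 * m + 1) - 1) := by
  have hq : 2 ^ (2 * m + 1) % 3 = 2 := by
    rw [pow_succ, pow_mul, Nat.mul_mod, Nat.pow_mod]
    norm_num
  have h2 : (2 ^ (2 * m + 1)) ^ 2 % 3 = 1 := by rw [Nat.pow_mod, hq]
  have h3 : Nat.Prime 3 := Nat.prime_three
  rintro h
  rcases h3.dvd_mul.mp h with h | h
  · rcases h3.dvd_mul.mp h with h | h <;> omega
  · have := Nat.one_le_pow (2 * m + 1) 2 (by norm_num)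
    omega

omit hF in
theorem no_three {G : Type*} [Group G] [Finite G] (m : ℕ)
    (hc : Nat.card G = (2 ^ (2 * m + 1)) ^ 2 * ((2 ^ (2 * m + 1)) ^ 2 + 1) * (2 ^ (2 * m + 1) - 1))
    (g : G) (hg : g ^ 3 = 1) : g = 1 := by
  by_contra h1
  refine not_three_dvd m (hc ▸ ?_)
  haveI : Fact (Nat.Prime 3) := ⟨Nat.prime_three⟩
  exact orderOf_eq_prime hg h1 ▸ orderOf_dvd_natCard g

/-- A group of Suzuki order with coordinates is a Suzuki group. -/
theorem nonempty_equiv_sz (hm : 1 ≤ m) {G : Type*} [Group G] [Finite G] {φ : F ≃+* F} (C : Coord G F φ)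
    (hc : Nat.card G = (2 ^ (2 * m + 1)) ^ 2 * ((2 ^ (2 * m + 1)) ^ 2 + 1) * (2 ^ (2 * m + 1) - 1)) :
    Nonempty (G ≃* ↥(Cfsg.Sz F m)) := by
  haveI := charTwo hF
  exact unique ⟨2 * m + 1, ⟨m, rfl⟩, by rw [Nat.card_eq_fintype_card, hF]⟩ C (szCoord hF hm) (no_three m hc)
    (no_three m (card_Sz hF hm))

end CfsgLib.SuzukiUnique
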