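import Cfsg.Agent.Lib.SuzukiUnique.Coord

/-!
Normalised coordinates: the image of a central involution, and the reduction of its parameter to zero.
-/

set_option autoImplicit false
set_option linter.unusedSectionVars false

namespace CfsgLib.SuzukiUnique

variable {F : Type*} [Field F] [Finite F] [CharP F 2] {φ : F ≃+* F}
variable {G : Type*} [Group G]

/-- The norm-like map of type A. -/
def nrm (φ : F ≃+* F) (x : F) : F := x * φ x

/-- The linear function describing orbits. -/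
def lin (φ : F ≃+* F) (c u : F) : F := (c + 1) * u + c * φ u

theorem nrm_ne_zero {x : F} (hx : x ≠ 0) : nrm φ x ≠ 0 := mul_ne_zero hx ((map_ne_zero φ).mpr hx)

theorem nrm_one : nrm φ (1 : F) = 1 := by simp [nrm]

theorem lin_one (c : F) : lin φ c 1 = 1 := by
  simp only [lin, map_one]
  linear_combination c * (CharTwo.two_eq_zero : (2 : F) = 0)

theorem lin_fixed (c : F) {u : F} (hu : φ u = u) : lin φ c u = u := by
  simp only [lin, hu]
  linear_combination c * u * (CharTwo.two_eq_zero : (2 : F) = 0)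

theorem orbit_identity (c : F) {u : F} (hu : u ≠ 0) :
    c * nrm φ (1 + u⁻¹) + (c + 1) + φ (1 + u⁻¹) = (nrm φ u)⁻¹ * (c + lin φ c u) := by
  have hφ : φ u ≠ 0 := (map_ne_zero φ).mpr hu
  simp only [nrm, lin, map_add, map_one, map_inv₀]
  field_simp
  linear_combination (u * φ u * (c + 1)) * (CharTwo.two_eq_zero : (2 : F) = 0)

namespace Coord

/-- Coordinates pulled back along a scaling. -/
def scale (C : Coord G F φ) (x₁ : F) (hx₁ : x₁ ≠ 0) : Coord G F φ where
  p X := C.p (dP φ x₁ X)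
  p_mul X Y := by
    rw [C.p_mul]
    refine congrArg C.p (Prod.ext ?_ ?_) <;> simp [mulP, dP, map_mul] <;> ring
  e := C.e
  e_conj l X := by rw [C.e_conj, dP_mul, dP_mul, mul_comm]
  w := C.w
  w_sq := C.w_sq
  w_e := C.w_e
  uniq a l b a' l' b' h := by
    obtain ⟨h1, h2, h3⟩ := C.uniq _ _ _ _ _ _ h
    have hd : Function.Injective (dP φ x₁) := fun X Y hXY => by
      rw [← dP_one (φ := φ) X, ← dP_one (φ := φ) Y, ← inv_mul_cancel₀ hx₁, ← dP_mul, ← dP_mul, hXY]
    exact ⟨hd h1, h2, hd h3⟩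
  out a l := C.out _ l
  cover g := by
    have e : ∀ a, C.p a = C.p (dP φ x₁ (dP φ x₁⁻¹ a)) := fun a => by
      rw [dP_mul, mul_inv_cancel₀ hx₁, dP_one]
    rcases C.cover g with ⟨a, l, h⟩ | ⟨a, l, b, h⟩
    · exact Or.inl ⟨dP φ x₁⁻¹ a, l, by rw [← e]; exact h⟩
    · exact Or.inr ⟨dP φ x₁⁻¹ a, l, dP φ x₁⁻¹ b, by rw [← e, ← e]; exact h⟩

/-- The normalised form of the image of a central involution. -/
def Base (C : Coord G F φ) (c : F) (K : Fˣ) : Prop := C.Eq3 (0, 1) (1, c + 1) K⁻¹ (1, c)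

theorem exists_base (C : Coord G F φ) (H : OddField F) (h3 : ∀ g : G, g ^ 3 = 1 → g = 1) :
    ∃ (C' : Coord G F φ) (c : F) (K : Fˣ), C'.Base c K := by
  obtain ⟨f, h, g, e⟩ := C.exists_eq3 (X := ((0, 1) : F × F)) (by simp)
  have hinv : invP φ ((0, 1) : F × F) = (0, 1) := by simp [invP]
  have hf : f = invP φ g := by
    have e' := e.inv
    rw [hinv] at e'
    exact (e.unique e').1
  subst hf
  by_cases hg : g.1 = 0
  · exfalso
    have hg2 : g.2 ≠ 0 := fun h2 => by
      have hg0 : g = 0 := Prod.ext hg h2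
      subst hg0
      unfold Eq3 at e
      rw [show invP φ (0 : F × F) = 0 by simp [invP, Prod.ext_iff], C.p_zero, one_mul, mul_one] at e
      refine C.out (dP φ (h : F) (0, 1)) h ?_
      rw [← C.e_p, ← mul_right_cancel e, mul_assoc, C.p_mul]
      simp [mulP, CharTwo.add_self_eq_zero, ← Prod.zero_eq_mk, C.p_zero]
    obtain ⟨s, hs⟩ := (Finite.injective_iff_surjective.mp (CharTwo.sq_injective (R := F))) g.2
    obtain ⟨l, hl⟩ := exists_norm H φ s
    have hl0 : l ≠ 0 := fun h0 => by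
      rw [h0, zero_mul] at hl
      rw [← hl] at hs
      simp at hs
      exact hg2 hs.symm
    have e' := e.smul (Units.mk0 l hl0)
    have hφl : φ l ≠ 0 := (map_ne_zero φ).mpr hl0
    have ht : dP φ ((Units.mk0 l hl0 : Fˣ) : F) ((0, 1) : F × F) = ((0, s) : F × F) := by
      simp [dP, hl]
    have hgs : dP φ (((Units.mk0 l hl0)⁻¹ : Fˣ) : F) g = ((0, s) : F × F) := by
      refine Prod.ext (by simp [dP, hg]) ?_
      simp only [dP, Units.val_inv_eq_inv_val, Units.val_mk0, map_inv₀, ← mul_inv]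
      rw [hl, ← hs]
      field_simp [show s ≠ 0 from hl ▸ mul_ne_zero hl0 hφl]
    have hfs : dP φ (((Units.mk0 l hl0)⁻¹ : Fˣ) : F) (invP φ g) = ((0, s) : F × F) := by
      rw [show invP φ g = g from Prod.ext rfl (by simp [invP, hg]), hgs]
    rw [ht, hgs, hfs] at e'
    obtain ⟨-, hh, -⟩ := e'.unique e'.swap
    set k := (Units.mk0 l hl0)⁻¹ * h * (Units.mk0 l hl0)⁻¹ with hk
    have hk1 : k = 1 := by
      have h2 : (k : F) ^ 2 = 1 ^ 2 := by
        rw [one_pow, sq]
        nth_rewrite 2 [hh]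
        rw [Units.mul_inv]
      exact Units.ext (CharTwo.sq_injective h2)
    rw [hk1] at e'
    unfold Eq3 at e'
    rw [map_one, mul_one] at e'
    set t := C.p ((0, s) : F × F) with htdef
    have htt : t * t = 1 := by
      rw [htdef, C.p_mul, ← C.p_zero]
      exact congrArg C.p (Prod.ext (by simp [mulP]) (by
        show s + s + φ 0 * 0 = 0
        rw [mul_zero, add_zero, CharTwo.add_self_eq_zero]))
    have hwt : (C.w * t) ^ 3 = 1 := by
      calc (C.w * t) ^ 3 = (C.w * t * C.w) * t * (C.w * t) := by rw [pow_succ, sq]; group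
        _ = t * C.w * (t * t) * (C.w * t) := by rw [e']; group
        _ = t * (C.w * C.w) * t := by rw [htt]; group
        _ = 1 := by rw [C.w_sq, mul_one, htt]
    have h9 := h3 _ hwt
    refine C.out ((0, s) : F × F) 1 ?_
    rw [map_one, mul_one, ← htdef, eq_inv_of_mul_eq_one_right h9, C.w_inv]
  · obtain ⟨s, hs⟩ := (Finite.injective_iff_surjective.mp (CharTwo.sq_injective (R := F))) (nrm φ g.1)
    obtain ⟨l, hl⟩ := exists_norm H φ s
    have hl0 : l ≠ 0 := fun h0 => by
      rw [h0, zero_mul] at hl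
      rw [← hl] at hs
      simp at hs
      exact nrm_ne_zero (φ := φ) hg hs.symm
    have hφl : φ l ≠ 0 := (map_ne_zero φ).mpr hl0
    set x₁ := g.1 / l with hx
    have hx₁ : x₁ ≠ 0 := div_ne_zero hg hl0
    have hφx : φ x₁ ≠ 0 := (map_ne_zero φ).mpr hx₁
    have hN : x₁ * φ x₁ = l * φ l := by
      have hs' : (l * φ l) ^ 2 = g.1 * φ g.1 := by rw [hl]; exact hs
      rw [hx, map_div₀]
      field_simp
      linear_combination -hs'
    refine ⟨C.scale x₁ hx₁, (l * φ l)⁻¹ * g.2 / (x₁ * φ x₁),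
      (((Units.mk0 l hl0)⁻¹ * h * (Units.mk0 l hl0)⁻¹)⁻¹), ?_⟩
    rw [Base, inv_inv]
    show C.Eq3 (dP φ x₁ (0, 1)) (dP φ x₁ (1, _)) _ (dP φ x₁ (1, _))
    have e' := e.smul (Units.mk0 l hl0)
    have e1 : dP φ ((Units.mk0 l hl0 : Fˣ) : F) ((0, 1) : F × F) = dP φ x₁ (0, 1) := by
      simp [dP, hN]
    have e2 : dP φ (((Units.mk0 l hl0)⁻¹ : Fˣ) : F) g = dP φ x₁ (1, (l * φ l)⁻¹ * g.2 / (x₁ * φ x₁)) := by
      refine Prod.ext ?_ ?_ <;> simp only [dP, Units.val_inv_eq_inv_val, Units.val_mk0, map_inv₀]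
      · rw [hx]; field_simp
      · field_simp
    have e3 : dP φ (((Units.mk0 l hl0)⁻¹ : Fˣ) : F) (invP φ g) =
        dP φ x₁ (1, (l * φ l)⁻¹ * g.2 / (x₁ * φ x₁) + 1) := by
      refine Prod.ext ?_ ?_ <;> simp only [dP, invP, Units.val_inv_eq_inv_val, Units.val_mk0, map_inv₀]
      · rw [hx]; field_simp
      · have hxx : g.1 = x₁ * l := by rw [hx]; field_simp
        rw [hxx, map_mul]
        field_simp
    rw [e1, e2, e3] at e'
    exact e'

end Coord

end CfsgLib.SuzukiUnique
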